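import Mathlib

set_option autoImplicit false

namespace Groth.Agent.CompGroup

open Finset Matrix Equiv

variable {n ι R : Type*} [Fintype n] [DecidableEq n] [Fintype ι] [DecidableEq ι] [CommRing R]

theorem det_mul_expand (A : Matrix n ι R) (B : Matrix ι n R) :
    (A * B).det = ∑ p : n → ι, (A.submatrix id p).det * ∏ i, B (p i) i := by
  simp only [Matrix.det_apply', Matrix.mul_apply, Finset.prod_univ_sum, Finset.mul_sum,
    Fintype.piFinset_univ, Finset.sum_mul, Matrix.submatrix_apply, id]
  rw [Finset.sum_comm]
  refine Finset.sum_congr rfl fun p _ => Finset.sum_congr rfl fun σ _ => ?_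
  rw [Finset.prod_mul_distrib, mul_assoc]

/-- A symmetrised Cauchy–Binet formula. -/
theorem factorial_mul_det_mul (A : Matrix n ι R) (B : Matrix ι n R) :
    ((Fintype.card n).factorial : R) * (A * B).det =
      ∑ p : n → ι, (A.submatrix id p).det * (B.submatrix p id).det := by
  have h1 : ∀ τ : Perm n,
      ∑ p : n → ι, (A.submatrix id p).det * ((Perm.sign τ : ℤ) * ∏ i, B (p (τ i)) i) =
        (A * B).det := by
    intro τ
    rw [det_mul_expand]
    refine Fintype.sum_equiv (τ.symm.arrowCongr (Equiv.refl ι)) _ _ fun p => ?_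
    have : (A.submatrix id ((τ.symm.arrowCongr (Equiv.refl ι)) p)) =
        (A.submatrix id p).submatrix id τ := by
      ext i j; simp
    rw [this, Matrix.det_permute']
    simp only [Equiv.arrowCongr_apply, Equiv.coe_refl, Function.comp_apply, id, Equiv.symm_symm]
    ring
  calc ((Fintype.card n).factorial : R) * (A * B).det
      = ∑ τ : Perm n, (A * B).det := by simp [Fintype.card_perm]
    _ = ∑ τ : Perm n, ∑ p : n → ι,
        (A.submatrix id p).det * ((Perm.sign τ : ℤ) * ∏ i, B (p (τ i)) i) :=
        Finset.sum_congr rfl fun τ _ => (h1 τ).symm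
    _ = _ := by
        rw [Finset.sum_comm]
        refine Finset.sum_congr rfl fun p _ => ?_
        rw [Matrix.det_apply' (B.submatrix p id), Finset.mul_sum]
        rfl

theorem card_injective_of_range (S : Finset ι) (hS : S.card = Fintype.card n) :
    (univ.filter fun p : n → ι => Function.Injective p ∧ univ.image p = S).card =
      (Fintype.card n).factorial := by
  classical
  have hc : Fintype.card n = Fintype.card S := by simp [hS]
  rw [← Fintype.card_equiv (Fintype.equivOfCardEq hc), ← Finset.card_univ]
  refine Finset.card_bij'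
    (fun p hp => Equiv.ofBijective (fun i : n => (⟨p i, (Finset.mem_filter.mp hp).2.2 ▸
        Finset.mem_image_of_mem p (Finset.mem_univ i)⟩ : S))
      ((Fintype.bijective_iff_injective_and_card _).mpr
        ⟨fun i j h => (Finset.mem_filter.mp hp).2.1 (congrArg Subtype.val h), hc⟩))
    (fun e _ i => (e i : ι)) (fun _ _ => Finset.mem_univ _) ?_ (fun p hp => rfl) ?_
  · intro e _
    refine Finset.mem_filter.mpr ⟨Finset.mem_univ _, Subtype.val_injective.comp e.injective, ?_⟩
    ext x
    simp only [Finset.mem_image, Finset.mem_univ, true_and]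
    exact ⟨fun ⟨i, hi⟩ => hi ▸ (e i).2, fun hx => ⟨e.symm ⟨x, hx⟩, by simp⟩⟩
  · intro e _
    ext i; rfl

end Groth.Agent.CompGroup
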