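import Groth.Agent.CompGroup.Contract

set_option autoImplicit false

namespace Groth.Agent.CompGroup

open Finset Matrix

universe u

variable {V E : Type u} [Fintype V] [Fintype E] [DecidableEq V] [DecidableEq E]

theorem mfMatrix_mulVec_apply (ends : E → V × V) (β : V → ℤ) (x : V → ℤ) (v : V) :
    (LabGraph.mfMatrix ends β *ᵥ x) v =
      LabGraph.mfMatrix ends β v v * x v +
        ∑ w ∈ univ.erase v, (LabGraph.edgeMult ends v w : ℤ) * x w := by
  rw [Matrix.mulVec, dotProduct, ← Finset.add_sum_erase _ _ (mem_univ v)]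
  congr 1
  exact Finset.sum_congr rfl fun w hw => by simp [LabGraph.mfMatrix, (ne_of_mem_erase hw).symm]

theorem edgeMult_one_le {ends : E → V × V} {e : E} {v w : V}
    (h : ends e = (v, w) ∨ ends e = (w, v)) : 1 ≤ LabGraph.edgeMult ends v w :=
  Finset.card_pos.mpr ⟨e, Finset.mem_filter.mpr ⟨mem_univ _, h⟩⟩

/-- The data of a connecting chain with constant multiplicity `m` and self-intersection `-2`. -/
structure ChainData (ends : E → V × V) (β : V → ℤ) (m : ℕ) (f : Fin (m + 1) → V) (e : Fin m → E) :
    Prop where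
  hβ : LabGraph.IsMultFn ends β
  hC : LabGraph.IsChain ends f e
  hconn : ∀ i, LabGraph.IsConnecting ends (e i)
  hβm : ∀ i, β (f i) = m
  hα : ∀ i, LabGraph.mfMatrix ends β (f i) (f i) = -2

namespace ChainData

variable {ends : E → V × V} {β : V → ℤ} {m : ℕ} {f : Fin (m + 1) → V} {e : Fin m → E}

theorem one_le (d : ChainData ends β m f e) : 1 ≤ m := by
  have := (d.hβ (f 0)).1
  rw [d.hβm] at this
  omega

/-- The vertex with index `i` (clamped). -/
def vx (f : Fin (m + 1) → V) (i : ℕ) : V := f ⟨min i m, by omega⟩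

theorem vx_inj (d : ChainData ends β m f e) {i j : ℕ} (hi : i ≤ m) (hj : j ≤ m)
    (h : vx f i = vx f j) : i = j := by
  have := congrArg Fin.val (d.hC.1 h)
  simp at this; omega

theorem exists_vx {v : V} (h : ∃ i, f i = v) : ∃ i ≤ m, vx f i = v := by
  obtain ⟨i, rfl⟩ := h
  exact ⟨i, Nat.lt_succ_iff.mp i.2, by simp [vx, Nat.lt_succ_iff.mp i.2]⟩

theorem beta_vx (d : ChainData ends β m f e) (i : ℕ) : β (vx f i) = m := d.hβm _

theorem edge (d : ChainData ends β m f e) {i : ℕ} (hi : i < m) :
    ∃ ed, ed ∈ univ.image e ∧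
      (ends ed = (vx f i, vx f (i + 1)) ∨ ends ed = (vx f (i + 1), vx f i)) ∧
      ed = e ⟨i, hi⟩ := by
  refine ⟨e ⟨i, hi⟩, mem_image_of_mem _ (mem_univ _), ?_, rfl⟩
  have h1 : vx f i = f (Fin.castSucc ⟨i, hi⟩) := by
    simp [vx, min_eq_left hi.le, Fin.castSucc, Fin.castAdd, Fin.castLE]
  have h2 : vx f (i + 1) = f (Fin.succ ⟨i, hi⟩) := by
    simp [vx, min_eq_left (Nat.succ_le_of_lt hi), Fin.succ]
  rw [h1, h2]
  exact d.hC.2.2 _

theorem mult_succ (d : ChainData ends β m f e) {i : ℕ} (hi : i < m) :
    LabGraph.edgeMult ends (vx f i) (vx f (i + 1)) = 1 := by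
  obtain ⟨ed, -, hed, rfl⟩ := d.edge hi
  obtain ⟨S, hS⟩ := d.hconn ⟨i, hi⟩
  refine Finset.card_eq_one.mpr ⟨e ⟨i, hi⟩, ?_⟩
  ext x
  simp only [mem_filter, mem_univ, true_and, mem_singleton]
  refine ⟨fun hx => ?_, fun hx => hx ▸ hed⟩
  have h0 := (hS (e ⟨i, hi⟩)).mpr rfl
  apply (hS x).mp
  rcases hx with hx | hx <;> rcases hed with hed | hed <;> simp [hx, hed] at h0 ⊢ <;> tauto

theorem sum_nbr (d : ChainData ends β m f e) (i : ℕ) :
    ∑ w ∈ univ.erase (vx f i), β w * (LabGraph.edgeMult ends (vx f i) w : ℤ) = 2 * m := by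
  have h := mult_mul_diag d.hβ (vx f i)
  rw [d.beta_vx i, show LabGraph.mfMatrix ends β (vx f i) (vx f i) = -2 from d.hα _] at h
  linarith

theorem interior (d : ChainData ends β m f e) {i : ℕ} (hi1 : i + 1 < m) {w : V}
    (hw : w ≠ vx f i) (hw2 : w ≠ vx f (i + 2)) (hw1 : w ≠ vx f (i + 1)) :
    LabGraph.edgeMult ends (vx f (i + 1)) w = 0 := by
  set v := vx f (i + 1) with hv
  have hne1 : vx f i ≠ v := fun h => by have := d.vx_inj (by omega) (by omega) h; omega
  have hne2 : vx f (i + 2) ≠ v := fun h => by have := d.vx_inj (by omega) (by omega) h; omega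
  have hne3 : vx f i ≠ vx f (i + 2) := fun h => by have := d.vx_inj (by omega) (by omega) h; omega
  have h := d.sum_nbr (i + 1)
  rw [← hv, ← Finset.add_sum_erase _ _ (mem_erase.mpr ⟨hne1, mem_univ _⟩),
    ← Finset.add_sum_erase _ _ (mem_erase.mpr ⟨hne3.symm, mem_erase.mpr ⟨hne2, mem_univ _⟩⟩),
    d.beta_vx, d.beta_vx, edgeMult_comm ends v (vx f i), d.mult_succ (by omega : i < m),
    d.mult_succ hi1] at h
  have hz : ∑ w ∈ ((univ.erase v).erase (vx f i)).erase (vx f (i + 2)),
      β w * (LabGraph.edgeMult ends v w : ℤ) = 0 := by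
    push_cast at h; linarith
  have := (Finset.sum_eq_zero_iff_of_nonneg fun x _ =>
    mul_nonneg (d.hβ x).1.le (Int.natCast_nonneg _)).mp hz w (by simp [hw, hw2, hw1])
  simpa [(d.hβ w).1.ne'] using this

theorem mk_eq (d : ChainData ends β m f e) {x y : V} :
    DualGr.ctrMk ends (univ.image e) x = DualGr.ctrMk ends (univ.image e) y ↔
      x = y ∨ ((∃ i, f i = x) ∧ ∃ j, f j = y) := by
  constructor
  · intro h
    have h' : Relation.EqvGen (DualGr.CtrRel ends (univ.image e)) x y :=
      Quotient.exact (s := DualGr.ctrSetoid ends (univ.image e)) h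
    induction h' with
    | rel a b hab =>
      obtain ⟨ed, hed, hab⟩ := hab
      obtain ⟨i, -, rfl⟩ := mem_image.mp hed
      refine Or.inr ?_
      rcases d.hC.2.2 i with h | h <;> rw [h] at hab <;> simp only [Prod.mk.injEq] at hab
      · exact ⟨⟨_, hab.1⟩, ⟨_, hab.2⟩⟩
      · exact ⟨⟨_, hab.1⟩, ⟨_, hab.2⟩⟩
    | refl a => exact Or.inl rfl
    | symm a b hab ih =>
      rcases ih (Quotient.sound hab) with rfl | ⟨h1, h2⟩
      · exact Or.inl rfl
      · exact Or.inr ⟨h2, h1⟩
    | trans a b c hab hbc ih1 ih2 =>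
      rcases ih1 (Quotient.sound hab) with rfl | ⟨h1, h2⟩
      · exact ih2 (Quotient.sound hbc)
      · rcases ih2 (Quotient.sound hbc) with rfl | ⟨_, h4⟩
        · exact Or.inr ⟨h1, h2⟩
        · exact Or.inr ⟨h1, h4⟩
  · rintro (rfl | ⟨hx, hy⟩)
    · rfl
    · have key : ∀ i ≤ m, DualGr.ctrMk ends (univ.image e) (vx f i) =
          DualGr.ctrMk ends (univ.image e) (vx f 0) := by
        intro i hi
        induction i with
        | zero => rfl
        | succ n ih =>
          obtain ⟨ed, hmem, hed, -⟩ := d.edge (show n < m by omega)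
          have h := DualGr.ctrMk_fst_eq_ctrMk_snd ends _ hmem
          rcases hed with hed | hed <;> rw [hed] at h
          · exact h.symm.trans (ih (by omega))
          · exact h.trans (ih (by omega))
      obtain ⟨i, hi, rfl⟩ := exists_vx hx
      obtain ⟨j, hj, rfl⟩ := exists_vx hy
      rw [key i hi, key j hj]

theorem beta_const (d : ChainData ends β m f e) :
    ∀ ed ∈ univ.image e, β (ends ed).1 = β (ends ed).2 := by
  intro ed hed
  obtain ⟨i, -, rfl⟩ := mem_image.mp hed
  rcases d.hC.2.2 i with h | h <;> simp [h, d.hβm]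

theorem vx_zero (f : Fin (m + 1) → V) : vx f 0 = f 0 := by simp [vx]

theorem vx_mem (f : Fin (m + 1) → V) (i : ℕ) : ∃ j, f j = vx f i := ⟨_, rfl⟩

/-- A vector `w` with `α w = δ₀ - δ_m`. -/
theorem exists_w (d : ChainData ends β m f e) :
    ∃ w : V → ℤ, LabGraph.mfMatrix ends β *ᵥ w = Pi.single (vx f 0) 1 - Pi.single (vx f m) 1 ∧
      ∀ i ≤ m, w (vx f i) = i := by
  classical
  obtain ⟨M, rfl⟩ : ∃ M, m = M + 1 := ⟨m - 1, by have := d.one_le; omega⟩
  obtain ⟨S₀, hS₀⟩ := d.hconn ⟨M, by omega⟩
  obtain ⟨ed, -, hed, rfl⟩ := d.edge (show M < M + 1 by omega)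
  obtain ⟨B, hB, hBm⟩ : ∃ B : Finset V,
      (∀ x, ((ends x).1 ∈ B ↔ (ends x).2 ∉ B) ↔ x = e ⟨M, by omega⟩) ∧ vx f (M + 1) ∈ B := by
    by_cases h : vx f (M + 1) ∈ S₀
    · exact ⟨S₀, hS₀, h⟩
    · refine ⟨S₀ᶜ, fun x => ?_, by simpa using h⟩
      rw [← hS₀ x]
      simp only [Finset.mem_compl, not_not]
      tauto
  have cross : ∀ {a b : V}, a ∈ B → b ∉ B → LabGraph.edgeMult ends a b ≠ 0 →
      a = vx f (M + 1) ∧ b = vx f M := by
    intro a b ha hb hab
    obtain ⟨x, hx⟩ := Finset.card_ne_zero.mp hab
    simp only [mem_filter, mem_univ, true_and] at hx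
    have : x = e ⟨M, by omega⟩ := (hB x).mp (by rcases hx with h | h <;> simp [h, ha, hb])
    subst this
    have h0 := (hB (e ⟨M, by omega⟩)).mpr rfl
    rcases hx with h | h <;> rcases hed with h' | h' <;> rw [h] at h' <;>
      simp only [Prod.mk.injEq] at h' <;> obtain ⟨rfl, rfl⟩ := h'
    all_goals first | exact ⟨rfl, rfl⟩ | exact absurd hBm hb
  have hMB : vx f M ∉ B := by
    have h0 := (hB (e ⟨M, by omega⟩)).mpr rfl
    rcases hed with h' | h' <;> simp [h', hBm] at h0 <;> exact h0
  have lowB : ∀ i ≤ M, vx f i ∉ B := by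
    intro i hi
    obtain ⟨k, rfl⟩ : ∃ k, i = M - k := ⟨M - i, by omega⟩
    induction k with
    | zero => simpa using hMB
    | succ n ih =>
      intro hin
      rcases Nat.eq_zero_or_pos (M - n) with h0 | hpos
      · exact ih (by omega) (by rwa [show M - (n + 1) = M - n by omega] at hin)
      · have hj : M - (n + 1) + 1 = M - n := by omega
        have h1 := d.mult_succ (show M - (n + 1) < M + 1 by omega)
        rw [hj] at h1
        have := d.vx_inj (by omega) (by omega)
          (cross hin (ih (by omega)) (by rw [h1]; exact one_ne_zero)).1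
        omega
  let w : V → ℤ := fun v =>
    if v ∈ B then β v else if h : ∃ i, f i = v then ((Classical.choose h : Fin _) : ℕ) else 0
  have wchain : ∀ i ≤ M + 1, w (vx f i) = i := by
    intro i hi
    rcases eq_or_ne i (M + 1) with rfl | hne
    · simp [w, hBm, d.beta_vx]
    · simp only [w, if_neg (lowB i (by omega)), dif_pos (vx_mem f i)]
      have := congrArg Fin.val (d.hC.1 (Classical.choose_spec (vx_mem f i)))
      simp only at this
      rw [this]; simp [min_eq_left hi]
  have wout : ∀ v, v ∉ B → (∀ i, f i ≠ v) → w v = 0 := by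
    intro v hv hne
    simp [w, hv, hne]
  have wB : ∀ v ∈ B, w v = β v := fun v hv => by simp [w, hv]
  refine ⟨w, ?_, wchain⟩
  funext v
  rw [mfMatrix_mulVec_apply]
  by_cases hch : ∃ i, f i = v
  · obtain ⟨i, hi, rfl⟩ := exists_vx hch
    rw [show LabGraph.mfMatrix ends β (vx f i) (vx f i) = -2 from d.hα _, wchain i hi]
    rcases Nat.eq_zero_or_pos i with rfl | hpos
    · have hne : vx f 1 ≠ vx f 0 := fun h => by have := d.vx_inj (by omega) (by omega) h; omega
      rw [← Finset.add_sum_erase _ _ (mem_erase.mpr ⟨hne, mem_univ _⟩),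
        d.mult_succ (show 0 < M + 1 by omega), wchain 1 (by omega),
        Finset.sum_eq_zero (s := (univ.erase (vx f 0)).erase (vx f 1))]
      · have : vx f 0 ≠ vx f (M + 1) := fun h => by have := d.vx_inj (by omega) le_rfl h; omega
        simp [this]
      · intro x hx
        simp only [mem_erase, mem_univ, and_true] at hx
        by_cases h0 : LabGraph.edgeMult ends (vx f 0) x = 0
        · simp [h0]
        · have hxB : x ∉ B := by
            intro hxB
            obtain ⟨h1, h2⟩ := cross hxB (lowB 0 (by omega)) (by rwa [edgeMult_comm])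
            have : M = 0 := (d.vx_inj (by omega) (by omega) h2).symm
            subst this
            exact hx.1 h1
          rw [wout x hxB, mul_zero]
          intro j hj
          obtain ⟨j, hjm, rfl⟩ := exists_vx ⟨j, hj⟩
          rcases lt_trichotomy j 1 with h | h | h
          · exact hx.2 (by rw [show j = 0 by omega])
          · exact hx.1 (by rw [h])
          · rcases eq_or_ne j (M + 1) with rfl | hjM
            · exact hxB hBm
            · apply h0
              rw [edgeMult_comm]
              obtain ⟨k, rfl⟩ : ∃ k, j = k + 1 := ⟨j - 1, by omega⟩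
              exact d.interior (by omega)
                (fun h' => by have := d.vx_inj (by omega) (by omega) h'; omega)
                (fun h' => by have := d.vx_inj (by omega) (by omega) h'; omega)
                (fun h' => by have := d.vx_inj (by omega) (by omega) h'; omega)
    · obtain ⟨k, rfl⟩ : ∃ k, i = k + 1 := ⟨i - 1, by omega⟩
      have hneA : vx f k ≠ vx f (k + 1) := fun h => by
        have := d.vx_inj (by omega) (by omega) h; omega
      have hne0 : vx f (k + 1) ≠ vx f 0 := fun h => by
        have := d.vx_inj (by omega) (by omega) h; omega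
      rcases eq_or_ne (k + 1) (M + 1) with hkM | hkM
      · have : k = M := by omega
        subst this
        have hsum := d.sum_nbr (k + 1)
        rw [← Finset.add_sum_erase _ _ (mem_erase.mpr ⟨hneA, mem_univ _⟩), d.beta_vx,
          edgeMult_comm ends _ (vx f k), d.mult_succ (by omega : k < k + 1)] at hsum
        rw [← Finset.add_sum_erase _ _ (mem_erase.mpr ⟨hneA, mem_univ _⟩),
          edgeMult_comm ends _ (vx f k), d.mult_succ (by omega : k < k + 1), wchain k (by omega),
          Finset.sum_congr (s₁ := (univ.erase (vx f (k + 1))).erase (vx f k)) rfl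
            (g := fun x => β x * (LabGraph.edgeMult ends (vx f (k + 1)) x : ℤ))]
        · simp only [Pi.sub_apply, Pi.single_apply, hne0, if_true, if_false]
          push_cast at hsum ⊢
          linarith
        · intro x hx
          simp only [mem_erase, mem_univ, and_true] at hx
          by_cases h0 : LabGraph.edgeMult ends (vx f (k + 1)) x = 0
          · simp [h0]
          · have hxB : x ∈ B := by
              by_contra hxB
              exact hx.1 (cross hBm hxB h0).2
            rw [wB x hxB, mul_comm]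
      · have hneB : vx f (k + 2) ≠ vx f (k + 1) := fun h => by
          have := d.vx_inj (by omega) (by omega) h; omega
        have hneC : vx f (k + 2) ≠ vx f k := fun h => by
          have := d.vx_inj (by omega) (by omega) h; omega
        have hneM : vx f (k + 1) ≠ vx f (M + 1) := fun h => by
          have := d.vx_inj (by omega) le_rfl h; omega
        rw [← Finset.add_sum_erase _ _ (mem_erase.mpr ⟨hneA, mem_univ _⟩),
          ← Finset.add_sum_erase _ _ (mem_erase.mpr ⟨hneC, mem_erase.mpr ⟨hneB, mem_univ _⟩⟩),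
          edgeMult_comm ends _ (vx f k), d.mult_succ (show k < M + 1 by omega),
          d.mult_succ (show k + 1 < M + 1 by omega), wchain k (by omega),
          wchain (k + 2) (by omega), Finset.sum_eq_zero]
        · simp only [Pi.sub_apply, Pi.single_apply, hne0, hneM, if_false]
          push_cast; ring
        · intro x hx
          simp only [mem_erase, mem_univ, and_true] at hx
          rw [d.interior (by omega) hx.2.1 hx.1 hx.2.2]; simp
  · push Not at hch
    have hsingle : (Pi.single (vx f 0) 1 - Pi.single (vx f (M + 1)) 1 : V → ℤ) v = 0 := by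
      have h1 : v ≠ vx f 0 := fun h => hch _ h.symm
      have h2 : v ≠ vx f (M + 1) := fun h => hch _ h.symm
      simp [Pi.single_apply, h1, h2]
    rw [hsingle]
    by_cases hvB : v ∈ B
    · have hb := congrFun (mulVec_beta d.hβ) v
      rw [mfMatrix_mulVec_apply] at hb
      rw [← (show _ = (0 : ℤ) from hb), wB v hvB]
      congr 1
      refine Finset.sum_congr rfl fun x _ => ?_
      by_cases h0 : LabGraph.edgeMult ends v x = 0
      · simp [h0]
      · by_cases hxB : x ∈ B
        · rw [wB x hxB]
        · exact absurd (cross hvB hxB h0).1.symm (hch _)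
    · rw [wout v hvB hch, mul_zero, zero_add]
      refine Finset.sum_eq_zero fun x _ => ?_
      by_cases h0 : LabGraph.edgeMult ends v x = 0
      · simp [h0]
      · have hxB : x ∉ B := fun hxB =>
          hch _ (cross hxB hvB (by rwa [edgeMult_comm])).2.symm
        by_cases hx : ∃ i, f i = x
        · obtain ⟨j, hj, rfl⟩ := exists_vx hx
          rcases Nat.eq_zero_or_pos j with rfl | hjpos
          · simp [wchain 0 (by omega)]
          · rcases eq_or_ne j (M + 1) with rfl | hjM
            · exact absurd hBm hxB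
            · exfalso; apply h0
              obtain ⟨k, rfl⟩ : ∃ k, j = k + 1 := ⟨j - 1, by omega⟩
              rw [edgeMult_comm]
              exact d.interior (by omega) (fun h => hch _ h.symm) (fun h => hch _ h.symm)
                (fun h => hch _ h.symm)
        · rw [wout x hxB (by simpa using hx), mul_zero]

theorem pull_defect (d : ChainData ends β m f e) (x : DualGr.CtrVert ends (univ.image e) → ℤ) :
    ∀ i, i + 1 < m →
      (LabGraph.mfMatrix ends β *ᵥ fun v => x (DualGr.ctrMk ends (univ.image e) v))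
        (vx f (i + 1)) = 0 := by
  intro i hi
  have hA : vx f i ≠ vx f (i + 1) := fun h => by have := d.vx_inj (by omega) (by omega) h; omega
  have hB : vx f (i + 2) ≠ vx f (i + 1) := fun h => by
    have := d.vx_inj (by omega) (by omega) h; omega
  have hC : vx f (i + 2) ≠ vx f i := fun h => by have := d.vx_inj (by omega) (by omega) h; omega
  have hmk : ∀ j, DualGr.ctrMk ends (univ.image e) (vx f j) =
      DualGr.ctrMk ends (univ.image e) (vx f 0) :=
    fun j => d.mk_eq.mpr (Or.inr ⟨vx_mem f j, vx_mem f 0⟩)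
  rw [mfMatrix_mulVec_apply, show LabGraph.mfMatrix ends β (vx f (i + 1)) (vx f (i + 1)) = -2
      from d.hα _,
    ← Finset.add_sum_erase _ _ (mem_erase.mpr ⟨hA, mem_univ _⟩),
    ← Finset.add_sum_erase _ _ (mem_erase.mpr ⟨hC, mem_erase.mpr ⟨hB, mem_univ _⟩⟩),
    edgeMult_comm ends _ (vx f i), d.mult_succ (show i < m by omega), d.mult_succ hi,
    Finset.sum_eq_zero]
  · simp only [hmk]; push_cast; ring
  · intro w hw
    simp only [mem_erase, mem_univ, and_true] at hw
    rw [d.interior hi hw.2.1 hw.1 hw.2.2]; simp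

theorem liftAt_eq (d : ChainData ends β m f e) (x : DualGr.CtrVert ends (univ.image e) → ℤ) (v : V) :
    LabGraph.liftAt ends (univ.image e) (f 0) x v =
      if (∃ i, f i = v) ∧ v ≠ f 0 then 0 else x (DualGr.ctrMk ends (univ.image e) v) := by
  classical
  rw [LabGraph.liftAt]
  congr 1
  by_cases hv : v = f 0
  · simp [hv]
  · simp only [ne_eq, hv, not_false_eq_true, and_true, d.mk_eq, false_or, eq_iff_iff]
    exact ⟨fun h => h.1, fun h => ⟨h, 0, rfl⟩⟩

theorem pushV_lift (d : ChainData ends β m f e) (x : DualGr.CtrVert ends (univ.image e) → ℤ) :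
    DualGr.pushV ends (univ.image e) (LabGraph.liftAt ends (univ.image e) (f 0) x) = x := by
  classical
  funext c
  obtain ⟨v, rfl⟩ := DualGr.ctrMk_surjective ends (univ.image e) c
  simp only [DualGr.pushV, LinearMap.coe_mk, AddHom.coe_mk]
  obtain ⟨r, hr, hrl⟩ : ∃ r, DualGr.ctrMk ends (univ.image e) r =
      DualGr.ctrMk ends (univ.image e) v ∧ ¬((∃ i, f i = r) ∧ r ≠ f 0) := by
    by_cases h : ∃ i, f i = v
    · exact ⟨f 0, d.mk_eq.mpr (Or.inr ⟨⟨0, rfl⟩, h⟩), by simp⟩
    · exact ⟨v, rfl, fun h' => h h'.1⟩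
  rw [Finset.sum_eq_single r]
  · rw [d.liftAt_eq, if_neg hrl, hr]
  · intro b hb hbr
    rw [d.liftAt_eq, if_pos]
    have hbv := d.mk_eq.mp ((Finset.mem_filter.mp hb).2.trans hr.symm)
    rcases hbv with h | ⟨h1, h2⟩
    · exact absurd h hbr
    · refine ⟨h1, fun h => hbr ?_⟩
      rw [h]; by_contra hne; exact hrl ⟨h2, Ne.symm hne⟩
  · exact fun h => absurd hr (by simpa using h)

theorem lift_apply_mfMatrix (d : ChainData ends β m f e)
    (x : DualGr.CtrVert ends (univ.image e) → ℤ) :
    ∃ y : V → ℤ, LabGraph.liftAt ends (univ.image e) (f 0)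
      (LabGraph.mfMatrix (DualGr.ctrEnds ends (univ.image e))
        (LabGraph.ctrFn ends (univ.image e) β) *ᵥ x) = LabGraph.mfMatrix ends β *ᵥ y := by
  classical
  obtain ⟨w, hw, -⟩ := d.exists_w
  set p : V → ℤ := fun v => x (DualGr.ctrMk ends (univ.image e) v)
  set z := (LabGraph.mfMatrix ends β *ᵥ p) (vx f m)
  refine ⟨p + z • w, ?_⟩
  rw [mulVec_add, mulVec_smul, hw, mfMatrix_ctr d.hβ _ d.beta_const]
  funext v
  rw [d.liftAt_eq]
  simp only [DualGr.pushV, LinearMap.coe_mk, AddHom.coe_mk, Pi.add_apply, Pi.smul_apply,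
    Pi.sub_apply, Pi.single_apply, smul_eq_mul]
  have hm := d.one_le
  have h0m : vx f 0 ≠ vx f m := fun h => by have := d.vx_inj (by omega) le_rfl h; omega
  by_cases hch : ∃ i, f i = v
  · obtain ⟨i, hi, rfl⟩ := exists_vx hch
    rcases Nat.eq_zero_or_pos i with rfl | hpos
    · rw [if_neg (fun h => h.2 (vx_zero f)), if_pos rfl, if_neg h0m]
      rw [Finset.sum_eq_add (vx f 0) (vx f m) h0m]
      · simp only [z, p]; ring
      · intro c hc hne
        obtain ⟨j, hj, rfl⟩ := exists_vx (by
          rcases d.mk_eq.mp (Finset.mem_filter.mp hc).2 with h | ⟨h, -⟩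
          · exact absurd h hne.1
          · exact h)
        obtain ⟨k, rfl⟩ : ∃ k, j = k + 1 :=
          ⟨j - 1, by rcases Nat.eq_zero_or_pos j with rfl | h; exact absurd rfl hne.1; omega⟩
        exact d.pull_defect x k (by
          rcases eq_or_ne (k + 1) m with h | h
          · exact absurd (congrArg (vx f) h) hne.2
          · omega)
      · intro h; simp at h
      · intro h
        exact absurd (d.mk_eq.mpr (Or.inr ⟨vx_mem f m, vx_mem f 0⟩)) (by simpa using h)
    · have hne : vx f i ≠ vx f 0 := fun h => by have := d.vx_inj hi (by omega) h; omega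
      rw [if_pos ⟨vx_mem f i, fun h => hne (h.trans (vx_zero f).symm)⟩, if_neg hne]
      rcases eq_or_ne i m with rfl | him
      · rw [if_pos rfl]; ring
      · rw [if_neg (fun h => him (d.vx_inj hi le_rfl h))]
        obtain ⟨k, rfl⟩ : ∃ k, i = k + 1 := ⟨i - 1, by omega⟩
        rw [d.pull_defect x k (by omega)]; ring
  · rw [if_neg (fun h => hch h.1), Finset.sum_eq_single v]
    · rw [if_neg (fun h => hch ⟨_, h.symm⟩), if_neg (fun h => hch ⟨_, h.symm⟩)]; ring
    · intro b hb hbv
      rcases d.mk_eq.mp (Finset.mem_filter.mp hb).2 with h | ⟨-, h⟩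
      · exact absurd h hbv
      · exact absurd h hch
    · intro h; simp at h

theorem injective (d : ChainData ends β m f e) (x : DualGr.CtrVert ends (univ.image e) → ℤ)
    (hfx : LabGraph.liftAt ends (univ.image e) (f 0) x ∈
      LinearMap.range (Matrix.mulVecLin (LabGraph.mfMatrix ends β))) :
    x ∈ LinearMap.range (Matrix.mulVecLin
      (LabGraph.mfMatrix (DualGr.ctrEnds ends (univ.image e))
        (LabGraph.ctrFn ends (univ.image e) β))) := by
  classical
  obtain ⟨y, hy⟩ := hfx
  rw [mulVecLin_apply] at hy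
  obtain ⟨w, hw, hwc⟩ := d.exists_w
  have hm := d.one_le
  -- `y` is affine on the chain
  set D := y (vx f 1) - y (vx f 0) with hD
  have haff : ∀ i, i ≤ m → y (vx f i) = y (vx f 0) + i * D := by
    intro i
    induction i using Nat.strong_induction_on with
    | _ i ih =>
      intro hi
      rcases i with _ | _ | k
      · simp
      · simp [hD]
      · have h := congrFun hy (vx f (k + 1))
        rw [d.liftAt_eq, if_pos ⟨vx_mem f _, fun h => by
            have := d.vx_inj (by omega) (by omega) (h.trans (vx_zero f).symm); omega⟩,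
          mfMatrix_mulVec_apply] at h
        have hA : vx f k ≠ vx f (k + 1) := fun h => by
          have := d.vx_inj (by omega) (by omega) h; omega
        have hB : vx f (k + 2) ≠ vx f (k + 1) := fun h => by
          have := d.vx_inj (by omega) (by omega) h; omega
        have hC : vx f (k + 2) ≠ vx f k := fun h => by
          have := d.vx_inj (by omega) (by omega) h; omega
        rw [show LabGraph.mfMatrix ends β (vx f (k + 1)) (vx f (k + 1)) = -2 from d.hα _,
          ← Finset.add_sum_erase _ _ (mem_erase.mpr ⟨hA, mem_univ _⟩),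
          ← Finset.add_sum_erase _ _ (mem_erase.mpr ⟨hC, mem_erase.mpr ⟨hB, mem_univ _⟩⟩),
          edgeMult_comm ends _ (vx f k), d.mult_succ (show k < m by omega),
          d.mult_succ (show k + 1 < m by omega), Finset.sum_eq_zero] at h
        · have h1 := ih k (by omega) (by omega)
          have h2 := ih (k + 1) (by omega) (by omega)
          push_cast at h h1 h2 ⊢
          linarith
        · intro v hv
          simp only [mem_erase, mem_univ, and_true] at hv
          rw [d.interior (by omega) hv.2.1 hv.1 hv.2.2]; simp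
  let y' : V → ℤ := y - D • w
  have hy' : ∀ a b : V, DualGr.ctrMk ends (univ.image e) a = DualGr.ctrMk ends (univ.image e) b →
      y' a = y' b := by
    intro a b h
    rcases d.mk_eq.mp h with rfl | ⟨ha, hb⟩
    · rfl
    · obtain ⟨i, hi, rfl⟩ := exists_vx ha
      obtain ⟨j, hj, rfl⟩ := exists_vx hb
      simp only [y', Pi.sub_apply, Pi.smul_apply, smul_eq_mul, haff i hi, haff j hj, hwc i hi,
        hwc j hj]
      ring
  refine ⟨fun c => y' (Quotient.out (s := DualGr.ctrSetoid ends (univ.image e)) c), ?_⟩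
  rw [mulVecLin_apply, mfMatrix_ctr d.hβ _ d.beta_const,
    show (fun v => y' (Quotient.out (s := DualGr.ctrSetoid ends (univ.image e))
      (DualGr.ctrMk ends (univ.image e) v))) = y' from
      funext fun v => hy' _ _ (Quotient.out_eq (s := DualGr.ctrSetoid ends (univ.image e)) _)]
  simp only [y', mulVec_sub, mulVec_smul, map_sub, map_smul, hy, hw, d.pushV_lift]
  have : DualGr.pushV ends (univ.image e) (Pi.single (vx f 0) 1) =
      DualGr.pushV ends (univ.image e) (Pi.single (vx f m) 1) := by
    funext c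
    simp [DualGr.pushV, Finset.sum_pi_single, d.mk_eq.mpr (Or.inr ⟨vx_mem f m, vx_mem f 0⟩)]
  rw [this]; simp

end ChainData

end Groth.Agent.CompGroup
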