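import Groth.Agent.CompGroup.Chain

set_option autoImplicit false

namespace Groth.Agent.CompGroup.ChainData

open Finset Matrix

universe u

variable {V E : Type u} [Fintype V] [Fintype E] [DecidableEq V] [DecidableEq E]
variable {ends : E → V × V} {β : V → ℤ} {m : ℕ} {f : Fin (m + 1) → V} {e : Fin m → E}

/-- `liftAt` as a linear map. -/
noncomputable def liftL (ends : E → V × V) (D : Finset E) (v₀ : V) :
    (DualGr.CtrVert ends D → ℤ) →ₗ[ℤ] (V → ℤ) where
  toFun := LabGraph.liftAt ends D v₀
  map_add' x y := by
    funext v; simp only [LabGraph.liftAt, Pi.add_apply]; split_ifs <;> simp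
  map_smul' c x := by
    funext v; simp only [LabGraph.liftAt, Pi.smul_apply, RingHom.id_apply]; split_ifs <;> simp

theorem betaHom_push (d : ChainData ends β m f e) (z : V → ℤ) :
    LabGraph.betaHom (LabGraph.ctrFn ends (univ.image e) β) (DualGr.pushV ends (univ.image e) z) =
      LabGraph.betaHom β z := by
  classical
  rw [betaHom_apply, betaHom_apply, ← Finset.sum_fiberwise (univ : Finset V)
    (DualGr.ctrMk ends (univ.image e)) (fun v => z v * β v)]
  refine Finset.sum_congr rfl fun c _ => ?_
  simp only [DualGr.pushV, LinearMap.coe_mk, AddHom.coe_mk, Finset.sum_mul]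
  refine Finset.sum_congr rfl fun v hv => ?_
  rw [← (Finset.mem_filter.mp hv).2, ctrFn_mk d.beta_const]

theorem lift_surj (d : ChainData ends β m f e) (y : V → ℤ) :
    ∃ (x : DualGr.CtrVert ends (univ.image e) → ℤ) (z : V → ℤ),
      y = LabGraph.liftAt ends (univ.image e) (f 0) x + LabGraph.mfMatrix ends β *ᵥ z := by
  classical
  set α := LabGraph.mfMatrix ends β
  let S : Submodule ℤ (V → ℤ) :=
    LinearMap.range (liftL ends (univ.image e) (f 0)) ⊔ LinearMap.range (Matrix.mulVecLin α)
  have hrep : ∀ v, (¬((∃ i, f i = v) ∧ v ≠ f 0)) → (Pi.single v 1 : V → ℤ) ∈ S := by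
    intro v hv
    refine Submodule.mem_sup_left
      ⟨DualGr.pushV ends (univ.image e) (Pi.single v 1), ?_⟩
    change LabGraph.liftAt _ _ _ _ = _
    funext b
    rw [d.liftAt_eq]
    by_cases hb : (∃ i, f i = b) ∧ b ≠ f 0
    · rw [if_pos hb, Pi.single_apply, if_neg (fun h : b = v => hv (h ▸ hb))]
    · rw [if_neg hb]
      simp only [DualGr.pushV, LinearMap.coe_mk, AddHom.coe_mk, Finset.sum_pi_single, mem_filter,
        mem_univ, true_and]
      rw [Pi.single_apply]
      by_cases hbv : b = v
      · subst hbv; simp
      · rw [if_neg hbv]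
        refine Finset.sum_eq_zero fun x hx => Pi.single_eq_of_ne ?_ _
        rintro rfl
        have h := (Finset.mem_filter.mp hx).2
        rcases d.mk_eq.mp h with h | ⟨h1, h2⟩
        · exact hbv h.symm
        · exact hbv (by
            rw [not_and, not_not] at hv hb
            rw [hb h2, hv h1])
  obtain ⟨w, hw, -⟩ := d.exists_w
  have h0 : (Pi.single (vx f 0) 1 : V → ℤ) ∈ S := hrep _ (fun h => h.2 (vx_zero f))
  have hlast : (Pi.single (vx f m) 1 : V → ℤ) ∈ S := by
    have : (Pi.single (vx f m) 1 : V → ℤ) = Pi.single (vx f 0) 1 - α *ᵥ w := by rw [hw]; abel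
    rw [this]
    exact sub_mem h0 (Submodule.mem_sup_right ⟨w, rfl⟩)
  have hall : ∀ i ≤ m, (Pi.single (vx f i) 1 : V → ℤ) ∈ S := by
    intro i
    induction i using Nat.strong_induction_on with
    | _ i ih =>
      intro hi
      rcases i with _ | k
      · exact h0
      · rcases eq_or_ne (k + 1) m with h | h
        · rw [h]; exact hlast
        · set r : V → ℤ := α *ᵥ Pi.single (vx f k) 1 + (2 : ℤ) • Pi.single (vx f k) 1
            - Pi.single (vx f (k + 1)) 1 with hr
          have hrS : r ∈ S := by
            have hdec : r = ∑ v, r v • (Pi.single v 1 : V → ℤ) := by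
              conv_lhs => rw [← Finset.univ_sum_single r]
              exact Finset.sum_congr rfl fun v _ => by rw [← Pi.single_smul, smul_eq_mul, mul_one]
            rw [hdec]
            refine sum_mem fun v _ => ?_
            by_cases hv : (∃ j, f j = v) ∧ v ≠ f 0
            · obtain ⟨j, hj, rfl⟩ := exists_vx hv.1
              rcases lt_or_ge j (k + 1) with hjk | hjk
              · exact Submodule.smul_mem _ _ (ih j hjk hj)
              · rcases eq_or_ne j m with rfl | hjm
                · exact Submodule.smul_mem _ _ hlast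
                · have hz : r (vx f j) = 0 := by
                    simp only [hr, Pi.sub_apply, Pi.add_apply, mulVec_single_one, Matrix.col_apply,
                      Pi.smul_apply, Pi.single_apply, smul_eq_mul]
                    rw [if_neg (fun h => by have := d.vx_inj hj (by omega) h; omega)]
                    have hjne : vx f j ≠ vx f k := fun h => by
                      have := d.vx_inj hj (by omega) h; omega
                    simp only [α, LabGraph.mfMatrix, if_neg hjne]
                    rcases eq_or_ne j (k + 1) with rfl | hjk'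
                    · rw [edgeMult_comm, d.mult_succ (show k < m by omega)]; simp
                    · rw [if_neg (fun h => hjk' (d.vx_inj hj (by omega) h))]
                      obtain ⟨l, rfl⟩ : ∃ l, j = l + 1 := ⟨j - 1, by omega⟩
                      rw [d.interior (by omega)
                        (fun h => by have := d.vx_inj (by omega) (by omega) h; omega)
                        (fun h => by have := d.vx_inj (by omega) (by omega) h; omega)
                        (fun h => hjne h.symm)]
                      simp
                  rw [hz, zero_smul]; exact zero_mem _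
            · exact Submodule.smul_mem _ _ (hrep v hv)
          have hk := ih k (by omega) (by omega)
          have : (Pi.single (vx f (k + 1)) 1 : V → ℤ) =
              α *ᵥ Pi.single (vx f k) 1 + (2 : ℤ) • Pi.single (vx f k) 1 - r := by
            rw [hr]; abel
          rw [this]
          exact sub_mem (add_mem (Submodule.mem_sup_right ⟨_, rfl⟩) (Submodule.smul_mem _ _ hk)) hrS
  have hy : y ∈ S := by
    have hdec : y = ∑ v, y v • (Pi.single v 1 : V → ℤ) := by
      conv_lhs => rw [← Finset.univ_sum_single y]
      exact Finset.sum_congr rfl fun v _ => by rw [← Pi.single_smul, smul_eq_mul, mul_one]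
    rw [hdec]
    refine sum_mem fun v _ => Submodule.smul_mem _ _ ?_
    by_cases hv : (∃ j, f j = v) ∧ v ≠ f 0
    · obtain ⟨j, hj, rfl⟩ := exists_vx hv.1
      exact hall j hj
    · exact hrep v hv
  obtain ⟨a, ⟨x, rfl⟩, b, ⟨z, rfl⟩, hab⟩ := Submodule.mem_sup.mp hy
  exact ⟨x, z, hab.symm⟩

theorem exists_phi (d : ChainData ends β m f e) :
    ∃ φ : LabGraph.CompGrp (DualGr.ctrEnds ends (univ.image e)) (LabGraph.ctrFn ends (univ.image e) β) →+
        LabGraph.CompGrp ends β,
      Function.Surjective φ ∧
      ∀ (x : LinearMap.ker (LabGraph.betaHom (LabGraph.ctrFn ends (univ.image e) β)))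
        (y : LinearMap.ker (LabGraph.betaHom β)),
        (y : V → ℤ) = LabGraph.liftAt ends (univ.image e) (f 0)
          (x : DualGr.CtrVert ends (univ.image e) → ℤ) →
        φ (Submodule.Quotient.mk x) = Submodule.Quotient.mk y := by
  classical
  let g : LinearMap.ker (LabGraph.betaHom (LabGraph.ctrFn ends (univ.image e) β)) →ₗ[ℤ]
      LinearMap.ker (LabGraph.betaHom β) :=
    ((liftL ends (univ.image e) (f 0)).comp
      (LinearMap.ker (LabGraph.betaHom (LabGraph.ctrFn ends (univ.image e) β))).subtype).codRestrict _
      fun x => by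
        rw [LinearMap.mem_ker, ← d.betaHom_push]
        change LabGraph.betaHom _ (DualGr.pushV _ _ (LabGraph.liftAt _ _ _ x.1)) = 0
        rw [d.pushV_lift]
        exact x.2
  let φ := Submodule.mapQ
    ((LinearMap.range (Matrix.mulVecLin (LabGraph.mfMatrix (DualGr.ctrEnds ends (univ.image e))
      (LabGraph.ctrFn ends (univ.image e) β)))).comap
        (LinearMap.ker (LabGraph.betaHom (LabGraph.ctrFn ends (univ.image e) β))).subtype)
    ((LinearMap.range (Matrix.mulVecLin (LabGraph.mfMatrix ends β))).comap
        (LinearMap.ker (LabGraph.betaHom β)).subtype) g (by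
      rintro ⟨x, hx⟩ ⟨z, hz⟩
      obtain ⟨y, hy⟩ := d.lift_apply_mfMatrix z
      refine ⟨y, ?_⟩
      rw [mulVecLin_apply] at hz
      rw [mulVecLin_apply, ← hy, hz]
      rfl)
  refine ⟨φ.toAddMonoidHom, ?_, ?_⟩
  · intro q
    obtain ⟨⟨y, hy⟩, rfl⟩ := Submodule.Quotient.mk_surjective _ q
    obtain ⟨x, z, hxz⟩ := d.lift_surj y
    have hx : x ∈ LinearMap.ker (LabGraph.betaHom (LabGraph.ctrFn ends (univ.image e) β)) := by
      rw [LinearMap.mem_ker, ← d.pushV_lift x, d.betaHom_push]
      rw [LinearMap.mem_ker, hxz, map_add] at hy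
      have : LabGraph.betaHom β (LabGraph.mfMatrix ends β *ᵥ z) = 0 := by
        rw [betaHom_apply]
        simpa [dotProduct, mul_comm] using dot_mulVec_eq_zero d.hβ z
      rwa [this, add_zero] at hy
    refine ⟨Submodule.Quotient.mk ⟨x, hx⟩, (Submodule.Quotient.eq _).mpr ⟨-z, ?_⟩⟩
    rw [mulVecLin_apply, mulVec_neg]
    change _ = LabGraph.liftAt _ _ _ x - y
    rw [hxz]; abel
  · intro x y hxy
    change Submodule.Quotient.mk (g x) = Submodule.Quotient.mk y
    exact congrArg _ (Subtype.ext hxy.symm)

end Groth.Agent.CompGroup.ChainData
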