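import Groth.Agent.CompGroup.Main

set_option autoImplicit false

namespace Groth.Agent.CompGroup

open Finset Matrix

universe u

variable {V E : Type u} [Fintype V] [Fintype E] [DecidableEq V] [DecidableEq E]

theorem ctr_const {ends : E → V × V} {D : Finset E} {φ : V → ℤ}
    (h : ∀ e ∈ D, φ (ends e).1 = φ (ends e).2) {x y : V}
    (hxy : DualGr.ctrMk ends D x = DualGr.ctrMk ends D y) : φ x = φ y := by
  have h' : Relation.EqvGen (DualGr.CtrRel ends D) x y :=
    Quotient.exact (s := DualGr.ctrSetoid ends D) hxy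
  induction h' with
  | rel a b hab =>
    obtain ⟨e, he, hab⟩ := hab
    simpa [hab] using h e he
  | refl a => rfl
  | symm a b hab ih => exact (ih (Quotient.sound hab)).symm
  | trans a b c hab hbc ih1 ih2 => exact (ih1 (Quotient.sound hab)).trans (ih2 (Quotient.sound hbc))

theorem ctrFn_mk {ends : E → V × V} {D : Finset E} {φ : V → ℤ}
    (h : ∀ e ∈ D, φ (ends e).1 = φ (ends e).2) (v : V) :
    LabGraph.ctrFn ends D φ (DualGr.ctrMk ends D v) = φ v :=
  ctr_const h (Quotient.out_eq (s := DualGr.ctrSetoid ends D) _)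

theorem edgeMult_comm (ends : E → V × V) (v w : V) :
    LabGraph.edgeMult ends v w = LabGraph.edgeMult ends w v := by
  simp [LabGraph.edgeMult, or_comm]

theorem edgeMult_eq_zero_iff (ends : E → V × V) (v w : V) :
    LabGraph.edgeMult ends v w = 0 ↔ ∀ e, ends e ≠ (v, w) ∧ ends e ≠ (w, v) := by
  simp [LabGraph.edgeMult, Finset.filter_eq_empty_iff, not_or]

theorem edgeMult_ctr (ends : E → V × V) (D : Finset E) (c c' : DualGr.CtrVert ends D)
    (h : c ≠ c') :
    LabGraph.edgeMult (DualGr.ctrEnds ends D) c c' =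
      ∑ x ∈ univ.filter (fun x => DualGr.ctrMk ends D x = c),
        ∑ y ∈ univ.filter (fun y => DualGr.ctrMk ends D y = c'), LabGraph.edgeMult ends x y := by
  classical
  simp only [LabGraph.edgeMult]
  rw [← Finset.sum_product', ← Finset.card_biUnion]
  · refine Finset.card_bij (fun e _ => e.1) ?_ (fun _ _ _ _ h => Subtype.ext h) ?_
    · rintro ⟨e, he⟩ hem
      simp only [mem_filter, mem_univ, true_and, DualGr.ctrEnds, Prod.mk.injEq] at hem
      simp only [mem_biUnion, mem_product, mem_filter, mem_univ, true_and]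
      rcases hem with ⟨h1, h2⟩ | ⟨h1, h2⟩
      · exact ⟨((ends e).1, (ends e).2), ⟨h1, h2⟩, Or.inl rfl⟩
      · exact ⟨((ends e).2, (ends e).1), ⟨h2, h1⟩, Or.inr rfl⟩
    · intro e he
      simp only [mem_biUnion, mem_product, mem_filter, mem_univ, true_and] at he
      obtain ⟨⟨x, y⟩, ⟨hx, hy⟩, hxy⟩ := he
      have hD : e ∉ D := fun hD => by
        have := DualGr.ctrMk_fst_eq_ctrMk_snd ends D hD
        rcases hxy with h' | h' <;> rw [h'] at this
        · exact h (hx.symm.trans (this.trans hy))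
        · exact h (hx.symm.trans (this.symm.trans hy))
      refine ⟨⟨e, hD⟩, ?_, rfl⟩
      simp only [mem_filter, mem_univ, true_and, DualGr.ctrEnds, Prod.mk.injEq]
      rcases hxy with h' | h' <;> simp [h', hx, hy]
  · rintro ⟨x, y⟩ hxy ⟨x', y'⟩ hxy' hne
    simp only [coe_product, Set.mem_prod, coe_filter, mem_univ, true_and, Set.mem_ofPred_eq] at hxy hxy'
    simp only [Function.onFun, Finset.disjoint_left, mem_filter, mem_univ, true_and]
    rintro e (h1 | h1) (h2 | h2) <;> simp only [h1, Prod.mk.injEq] at h2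
    · exact hne (Prod.ext h2.1 h2.2)
    · exact h (hxy.1.symm.trans (h2.1 ▸ hxy'.2))
    · exact h (hxy.1.symm.trans (h2.2 ▸ hxy'.2))
    · exact hne (Prod.ext h2.2 h2.1)

theorem isMultFn_ctr {ends : E → V × V} {β : V → ℤ} (hβ : LabGraph.IsMultFn ends β) (D : Finset E)
    (hD : ∀ e ∈ D, β (ends e).1 = β (ends e).2) :
    LabGraph.IsMultFn (DualGr.ctrEnds ends D) (LabGraph.ctrFn ends D β) := by
  classical
  intro c
  obtain ⟨v, rfl⟩ := DualGr.ctrMk_surjective ends D c
  set mk := DualGr.ctrMk ends D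
  rw [ctrFn_mk hD]
  refine ⟨(hβ v).1, ?_⟩
  have key : ∑ c' ∈ univ.erase (mk v), LabGraph.ctrFn ends D β c' *
        (LabGraph.edgeMult (DualGr.ctrEnds ends D) (mk v) c' : ℤ) =
      ∑ x ∈ univ.filter (fun x => mk x = mk v),
        ∑ y ∈ univ.filter (fun y => mk y ≠ mk v), β y * (LabGraph.edgeMult ends x y : ℤ) := by
    rw [Finset.sum_comm, ← Finset.sum_fiberwise_of_maps_to
      (s := univ.filter fun y => mk y ≠ mk v) (g := mk) (t := univ.erase (mk v))
      (fun y hy => mem_erase.mpr ⟨(Finset.mem_filter.mp hy).2, mem_univ _⟩)]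
    refine Finset.sum_congr rfl fun c' hc' => ?_
    rw [edgeMult_ctr ends D _ _ (ne_of_mem_erase hc').symm, Nat.cast_sum, Finset.mul_sum,
      Finset.sum_comm]
    refine Finset.sum_congr rfl fun x _ => ?_
    rw [Nat.cast_sum, Finset.mul_sum]
    refine Finset.sum_congr ?_ fun y hy => ?_
    · ext y
      simp only [mem_filter, mem_univ, true_and]
      exact ⟨fun h => ⟨fun h' => ne_of_mem_erase hc' (h.symm.trans h'), h⟩, fun h => h.2⟩
    · simp only [mem_filter, mem_univ, true_and] at hy
      rw [← hy.2, ctrFn_mk hD]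
  rw [key]
  refine Finset.dvd_sum fun x hx => ?_
  have hx' : mk x = mk v := (Finset.mem_filter.mp hx).2
  have hbx : β x = β v := ctr_const hD hx'
  have hsplit : ∑ y ∈ univ.erase x, β y * (LabGraph.edgeMult ends x y : ℤ) =
      (∑ y ∈ univ.filter (fun y => mk y ≠ mk v), β y * (LabGraph.edgeMult ends x y : ℤ)) +
      ∑ y ∈ (univ.erase x).filter (fun y => mk y = mk v),
        β v * (LabGraph.edgeMult ends x y : ℤ) := by
    rw [← Finset.sum_filter_add_sum_filter_not (univ.erase x) (fun y => mk y ≠ mk v)]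
    congr 1
    · refine Finset.sum_congr ?_ fun _ _ => rfl
      ext y
      simp only [mem_filter, mem_erase, mem_univ, true_and, and_true]
      exact ⟨fun h => h.2, fun h => ⟨fun h' => h (h' ▸ hx'), h⟩⟩
    · refine Finset.sum_congr (Finset.filter_congr fun y _ => not_not) fun y hy => ?_
      rw [ctr_const hD (Finset.mem_filter.mp hy).2]
  have h1 := hbx ▸ (hβ x).2
  rw [hsplit] at h1
  exact (dvd_add_left (Finset.dvd_sum fun _ _ => Dvd.intro _ rfl)).mp h1

theorem mfMatrix_ctr {ends : E → V × V} {β : V → ℤ} (hβ : LabGraph.IsMultFn ends β) (D : Finset E)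
    (hD : ∀ e ∈ D, β (ends e).1 = β (ends e).2) (x : DualGr.CtrVert ends D → ℤ) :
    LabGraph.mfMatrix (DualGr.ctrEnds ends D) (LabGraph.ctrFn ends D β) *ᵥ x =
      DualGr.pushV ends D
        (LabGraph.mfMatrix ends β *ᵥ fun v => x (DualGr.ctrMk ends D v)) := by
  classical
  set mk := DualGr.ctrMk ends D
  set α := LabGraph.mfMatrix ends β
  set α' := LabGraph.mfMatrix (DualGr.ctrEnds ends D) (LabGraph.ctrFn ends D β) with hα'
  let N : Matrix (DualGr.CtrVert ends D) (DualGr.CtrVert ends D) ℤ := Matrix.of fun c c' =>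
    ∑ a ∈ univ.filter (fun a => mk a = c), ∑ b ∈ univ.filter (fun b => mk b = c'), α a b
  have hN : ∀ z : DualGr.CtrVert ends D → ℤ,
      DualGr.pushV ends D (α *ᵥ fun v => z (mk v)) = N *ᵥ z := by
    intro z
    funext c
    simp only [DualGr.pushV, LinearMap.coe_mk, AddHom.coe_mk, Matrix.mulVec, dotProduct, N,
      Matrix.of_apply, Finset.sum_mul]
    rw [Finset.sum_comm (s := (univ : Finset (DualGr.CtrVert ends D)))]
    refine Finset.sum_congr rfl fun a _ => ?_
    rw [← Finset.sum_fiberwise (univ : Finset V) mk]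
    exact Finset.sum_congr rfl fun c' _ => Finset.sum_congr rfl fun b hb => by
      rw [(Finset.mem_filter.mp hb).2]
  have hoff : ∀ c c', c ≠ c' → α' c c' = N c c' := by
    intro c c' h
    simp only [hα', LabGraph.mfMatrix, if_neg h, N, Matrix.of_apply]
    rw [edgeMult_ctr ends D c c' h, Nat.cast_sum]
    refine Finset.sum_congr rfl fun a ha => ?_
    rw [Nat.cast_sum]
    refine Finset.sum_congr rfl fun b hb => ?_
    have hab : a ≠ b := fun e => h (by
      rw [← (Finset.mem_filter.mp ha).2, ← (Finset.mem_filter.mp hb).2, e])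
    simp [α, LabGraph.mfMatrix, hab]
  have heq : α' = N := by
    ext c c'
    rcases eq_or_ne c c' with rfl | h
    · have h1 : α' *ᵥ LabGraph.ctrFn ends D β = N *ᵥ LabGraph.ctrFn ends D β := by
        rw [mulVec_beta (isMultFn_ctr hβ D hD), ← hN]
        rw [show (fun v => LabGraph.ctrFn ends D β (mk v)) = β from funext (ctrFn_mk hD),
          mulVec_beta hβ, map_zero]
      have h2 := congrFun h1 c
      simp only [Matrix.mulVec, dotProduct] at h2
      rw [← Finset.add_sum_erase _ _ (mem_univ c), ← Finset.add_sum_erase _ _ (mem_univ c),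
        Finset.sum_congr rfl fun k hk => by rw [hoff c k (ne_of_mem_erase hk).symm],
        add_left_inj] at h2
      exact mul_right_cancel₀ ((isMultFn_ctr hβ D hD) c).1.ne' h2
    · exact hoff c c' h
  rw [hN, heq]

end Groth.Agent.CompGroup
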