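import Groth.Agent.CompGroup.Tree

set_option autoImplicit false

namespace Groth.Agent.CompGroup

open Finset

universe u

variable {V E : Type u} [Fintype V] [Fintype E] [DecidableEq V] [DecidableEq E]

theorem adj_symm {ends : E → V × V} {a b : V} (h : LabGraph.Adj ends a b) :
    LabGraph.Adj ends b a :=
  let ⟨e, he⟩ := h; ⟨e, he.symm⟩

theorem rtg_mono {α : Type*} {r p : α → α → Prop} (h : ∀ a b, r a b → p a b) {a b : α}
    (hab : Relation.ReflTransGen r a b) : Relation.ReflTransGen p a b := by
  induction hab with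
  | refl => exact .refl
  | tail _ hbc ih => exact ih.tail (h _ _ hbc)

theorem endCount_map (ends : E → V × V) (T : Finset E) (D : Finset T) (v : V) :
    LabGraph.endCount ends (D.map (Function.Embedding.subtype _)) v =
      LabGraph.endCount (fun e : T => ends e.1) D v := by
  rw [LabGraph.endCount, Finset.sum_map]; rfl

/-- An edge of a circuit is not a bridge. -/
theorem connected_erase {ends : E → V × V} {T : Finset E}
    (hT : LabGraph.Connected (V := V) (fun e : T => ends e.1)) {C : Finset E} (hCT : C ⊆ T)
    (hC : LabGraph.IsCircuit ends C) {e₀ : E} (he₀ : e₀ ∈ C) :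
    LabGraph.Connected (V := V) (fun e : ↥(T.erase e₀) => ends e.1) := by
  classical
  let G : V → V → Prop := LabGraph.Adj (fun e : ↥(T.erase e₀) => ends e.1)
  have key : Relation.ReflTransGen G (ends e₀).1 (ends e₀).2 := by
    by_contra hne
    let K : Finset V := univ.filter fun v => Relation.ReflTransGen G (ends e₀).1 v
    have h1 : ((∑ v ∈ K, LabGraph.endCount ends C v : ℕ) : ZMod 2) = 0 := by
      rw [Nat.cast_sum]
      exact Finset.sum_eq_zero fun v _ => ZMod.natCast_eq_zero_iff_even.mpr (hC.2.1 v)
    have h2 : ((∑ v ∈ K, LabGraph.endCount ends C v : ℕ) : ZMod 2) = 1 := by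
      simp only [LabGraph.endCount]
      rw [Finset.sum_comm]
      push_cast
      rw [← Finset.add_sum_erase _ _ he₀, Finset.sum_eq_zero (s := C.erase e₀), add_zero]
      · have hp : (ends e₀).1 ∈ K := Finset.mem_filter.mpr ⟨mem_univ _, .refl⟩
        have hq : (ends e₀).2 ∉ K := fun h => hne (Finset.mem_filter.mp h).2
        simp [Finset.sum_add_distrib, hp, hq]
      · intro e he
        have hadj : G (ends e).1 (ends e).2 :=
          ⟨⟨e, mem_erase.mpr ⟨(mem_erase.mp he).1, hCT (mem_erase.mp he).2⟩⟩, Or.inl rfl⟩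
        have hiff : (ends e).1 ∈ K ↔ (ends e).2 ∈ K := by
          simp only [K, mem_filter, mem_univ, true_and]
          exact ⟨fun h => h.tail hadj, fun h => h.tail (adj_symm hadj)⟩
        by_cases hp : (ends e).1 ∈ K
        · simp [Finset.sum_add_distrib, hp, hiff.mp hp, show (1 + 1 : ZMod 2) = 0 from rfl]
        · simp [Finset.sum_add_distrib, hp, mt hiff.mpr hp]
    exact zero_ne_one (h1.symm.trans h2)
  have hsymm : ∀ {a b}, Relation.ReflTransGen G a b → Relation.ReflTransGen G b a := fun hab => by
    induction hab with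
    | refl => exact .refl
    | tail _ hbc ih => exact ih.head (adj_symm hbc)
  refine ⟨hT.1, fun a b => ?_⟩
  induction hT.2 a b with
  | refl => exact .refl
  | @tail c d _ hcd ih =>
    obtain ⟨⟨e, he⟩, h⟩ := hcd
    by_cases hee : e = e₀
    · subst hee
      rcases h with h | h <;> simp only at h
      · exact ih.trans (by simpa [h] using key)
      · exact ih.trans (hsymm (by simpa [h] using key))
    · exact ih.tail ⟨⟨e, mem_erase.mpr ⟨hee, he⟩⟩, h⟩

/-- A circuit of the subgraph is a circuit. -/
theorem circuit_map {ends : E → V × V} {T : Finset E} {C : Finset T}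
    (hC : LabGraph.IsCircuit (fun e : T => ends e.1) C) :
    LabGraph.IsCircuit ends (C.map (Function.Embedding.subtype _)) := by
  classical
  have hcount : ∀ (D : Finset T) (v : V), LabGraph.endCount ends (D.map (Function.Embedding.subtype _)) v =
      LabGraph.endCount (fun e : T => ends e.1) D v := endCount_map ends T
  refine ⟨hC.1.map, fun v => by rw [hcount]; exact hC.2.1 v, fun C' hlt hne => ?_⟩
  obtain ⟨D, hD, rfl⟩ := Finset.subset_map_iff.mp hlt.subset
  obtain ⟨v, hv⟩ := hC.2.2 D (lt_of_le_of_ne hD fun h => hlt.ne (by rw [h])) (by simpa using hne)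
  exact ⟨v, by rwa [hcount]⟩

theorem exists_spanning_tree {ends : E → V × V} (T : Finset E)
    (hT : LabGraph.Connected (V := V) (fun e : T => ends e.1)) :
    ∃ T' ⊆ T, LabGraph.IsSpanningTree ends T' := by
  classical
  induction T using Finset.strongInduction with
  | H T ih =>
    by_cases hf : DualGr.IsForest (V := V) (fun e : T => ends e.1)
    · exact ⟨T, subset_rfl, hT, hf⟩
    · simp only [DualGr.IsForest, not_forall, not_not] at hf
      obtain ⟨C, hC⟩ := hf
      obtain ⟨⟨e₀, he₀⟩, heC⟩ := hC.1
      have hc := connected_erase hT (fun x hx => by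
        obtain ⟨y, -, rfl⟩ := Finset.mem_map.mp hx; exact y.2) (circuit_map hC)
        (Finset.mem_map.mpr ⟨⟨e₀, he₀⟩, heC, rfl⟩ : e₀ ∈ C.map (Function.Embedding.subtype _))
      obtain ⟨T', hsub, hT'⟩ := ih _ (Finset.erase_ssubset he₀) hc
      exact ⟨T', hsub.trans (Finset.erase_subset _ _), hT'⟩

theorem cycle_iff (ends : E → V × V) (hG : LabGraph.Connected ends) (v : V) :
    (∃ C : Finset E, LabGraph.IsCircuit ends C ∧ LabGraph.endCount ends C v ≠ 0) ↔
      ∃ T : Finset E, LabGraph.IsSpanningTree ends T ∧
        ∃ e : E, e ∉ T ∧ ((ends e).1 = v ∨ (ends e).2 = v) := by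
  classical
  constructor
  · rintro ⟨C, hC, hv⟩
    obtain ⟨e, heC, hev⟩ := Finset.exists_ne_zero_of_sum_ne_zero hv
    have hev' : (ends e).1 = v ∨ (ends e).2 = v := by
      by_contra h
      push Not at h
      simp [h.1, h.2] at hev
    have hall : LabGraph.Connected (V := V) (fun x : ↥(univ : Finset E) => ends x.1) := by
      refine ⟨hG.1, fun a b => rtg_mono ?_ (hG.2 a b)⟩
      rintro a b ⟨x, hx⟩
      exact ⟨⟨x, mem_univ _⟩, hx⟩
    obtain ⟨T, hsub, hT⟩ := exists_spanning_tree _ (connected_erase hall (subset_univ C) hC heC)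
    exact ⟨T, hT, e, fun he => (mem_erase.mp (hsub he)).1 rfl, hev'⟩
  · rintro ⟨T, hT, e, heT, hev⟩
    set U := insert e T with hU
    have hnf : ¬ DualGr.IsForest (V := V) (fun x : U => ends x.1) := by
      intro hf
      have hc : LabGraph.Connected (V := V) (fun x : U => ends x.1) :=
        ⟨hG.1, fun a b => rtg_mono
          (fun _ _ ⟨⟨x, hx⟩, h⟩ => ⟨⟨x, mem_insert_of_mem hx⟩, h⟩) (hT.1.2 a b)⟩
      have h1 := ((isSpanningTree_iff ends U).mp ⟨hc, hf⟩).2
      have h2 := ((isSpanningTree_iff ends T).mp hT).2
      rw [hU, Finset.card_insert_of_notMem heT] at h1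
      omega
    simp only [DualGr.IsForest, not_forall, not_not] at hnf
    obtain ⟨C, hC⟩ := hnf
    have hC' := circuit_map hC
    refine ⟨_, hC', ?_⟩
    have heC : e ∈ C.map (Function.Embedding.subtype _) := by
      by_contra hne
      have hsub : C.map (Function.Embedding.subtype _) ⊆ T := fun x hx => by
        obtain ⟨y, -, rfl⟩ := Finset.mem_map.mp hx
        rcases mem_insert.mp y.2 with h | h
        · exact absurd (h ▸ hx) hne
        · exact h
      obtain ⟨D, hD⟩ : ∃ D : Finset T,
          D.map (Function.Embedding.subtype _) = C.map (Function.Embedding.subtype _) :=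
        ⟨(C.map (Function.Embedding.subtype _)).subtype (· ∈ T),
          Finset.subtype_map_of_mem fun x hx => hsub hx⟩
      have hne' : D.Nonempty := by
        have := hC'.1; rw [← hD] at this; simpa using this
      obtain ⟨D', -, hD'⟩ := exists_circuit_of_even (ends := fun x : T => ends x.1) D hne' (fun w => by
        have := hC'.2.1 w
        rw [← hD] at this
        rwa [endCount_map] at this)
      exact hT.2 D' hD'
    refine fun h0 => ?_
    have := Finset.sum_eq_zero_iff.mp h0 e heC
    rcases hev with h | h <;> simp [h] at this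

end Groth.Agent.CompGroup
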