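import Groth.Agent.CompGroup.Tree
import Groth.Agent.CompGroup.CauchyBinet

set_option autoImplicit false

namespace Groth.Agent.CompGroup

open Finset Matrix

universe u

variable {V E : Type u} [Fintype V] [Fintype E] [DecidableEq V] [DecidableEq E]

/-- Incidence column of an edge. -/
def col (ends : E → V × V) (e : E) : V → ℤ :=
  Pi.single (ends e).1 1 - Pi.single (ends e).2 1

theorem det_updateRow_single_eq {n : Type*} [Fintype n] [DecidableEq n] {R : Type*} [CommRing R]
    (A : Matrix n n R) (r : n) :
    (A.updateRow r (Pi.single r 1)).det = (A.updateCol r (Pi.single r 1)).det := by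
  rw [← adjugate_apply]
  have h : (A.updateCol r (Pi.single r 1)).det = Aᵀ.adjugate r r := by
    rw [adjugate_apply, ← det_transpose (A.updateCol r (Pi.single r 1)), ← updateRow_transpose]
  rw [h, ← adjugate_transpose, transpose_apply]

/-- If all columns but one sum to zero, the determinant factors. -/
theorem det_eq_sum_mul {n : Type*} [Fintype n] [DecidableEq n] {R : Type*} [CommRing R]
    (A : Matrix n n R) (r : n) (h : ∀ j ≠ r, ∑ i, A i j = 0) :
    A.det = (∑ i, A i r) * (A.updateCol r (Pi.single r 1)).det := by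
  have h1 : (A.updateRow r (∑ i, (1 : R) • A i)).det = A.det := by
    rw [det_updateRow_sum]; simp
  have h2 : (∑ i, (1 : R) • A i) = (∑ i, A i r) • (Pi.single r 1 : n → R) := by
    funext j
    rcases eq_or_ne j r with rfl | hj
    · simp
    · simp [h j hj, hj]
  rw [← h1, h2, det_updateRow_smul, det_updateRow_single_eq]

/-- The square matrix with incidence columns away from `r` and `δ_r` at `r`. -/
def incMat (ends : E → V × V) (r : V) (g : V → E) : Matrix V V ℤ :=
  Matrix.of fun i j => if j = r then (Pi.single r 1 : V → ℤ) i else col ends (g j) i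

theorem incMat_mulVec_single (ends : E → V × V) (r : V) (g : V → E) (j : V) :
    (incMat ends r g) *ᵥ Pi.single j 1 =
      if j = r then Pi.single r 1 else col ends (g j) := by
  funext i
  simp only [apply_ite (fun f : V → ℤ => f i)]
  rw [mulVec_single_one]
  by_cases h : j = r <;> simp [incMat, Matrix.col, h]

theorem isUnit_det_incMat_of_connected (ends : E → V × V) (r : V) (g : V → E) (T : Finset E)
    (hT : ∀ e ∈ T, ∃ j ≠ r, g j = e) (hc : LabGraph.Connected (V := V) (fun e : T => ends e.1)) :
    IsUnit (incMat ends r g).det := by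
  rw [← Matrix.isUnit_iff_isUnit_det, ← mulVec_surjective_iff_isUnit]
  let L := LinearMap.range (incMat ends r g).mulVecLin
  have hr : (Pi.single r 1 : V → ℤ) ∈ L := ⟨Pi.single r 1, by rw [mulVecLin_apply, incMat_mulVec_single, if_pos rfl]⟩
  have hv : ∀ v, (Pi.single v 1 : V → ℤ) ∈ L := by
    intro v
    induction hc.2 r v with
    | refl => exact hr
    | @tail b c _ hbc ih =>
      obtain ⟨⟨e, he⟩, h⟩ := hbc
      obtain ⟨j, hj, rfl⟩ := hT e he
      have hcol : col ends (g j) ∈ L := ⟨Pi.single j 1, by rw [mulVecLin_apply, incMat_mulVec_single, if_neg hj]⟩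
      rcases h with h | h
      · have hm := sub_mem ih hcol
        simpa [col, show ends (g j) = (b, c) from h] using hm
      · have hm := add_mem hcol ih
        simpa [col, show ends (g j) = (c, b) from h] using hm
  intro y
  have : y ∈ L := by
    have hy : y = ∑ v, y v • (Pi.single v 1 : V → ℤ) := by
      conv_lhs => rw [← Finset.univ_sum_single y]
      exact Finset.sum_congr rfl fun v _ => by rw [← Pi.single_smul, smul_eq_mul, mul_one]
    rw [hy]
    exact sum_mem fun v _ => Submodule.smul_mem _ _ (hv v)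
  exact this

theorem det_incMat_of_not_connected (ends : E → V × V) (r : V) (g : V → E) (T : Finset E)
    (hT : ∀ j ≠ r, g j ∈ T) (hc : ¬ LabGraph.Connected (V := V) (fun e : T => ends e.1)) :
    (incMat ends r g).det = 0 := by
  classical
  let G : V → V → Prop := LabGraph.Adj (fun e : T => ends e.1)
  have hsymm : ∀ a b, G a b → G b a := fun a b ⟨e, he⟩ => ⟨e, he.symm⟩
  have hex : ∃ v, ¬ Relation.ReflTransGen G r v := by
    by_contra hall
    push Not at hall
    refine hc ⟨⟨r⟩, fun v w => ?_⟩
    have hs : Symmetric (Relation.ReflTransGen G) :=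
      fun a b hab => by
        induction hab with
        | refl => exact Relation.ReflTransGen.refl
        | tail _ hbc ih => exact ih.head (hsymm _ _ hbc)
    exact (hs (hall v)).trans (hall w)
  obtain ⟨v₀, hv₀⟩ := hex
  refine exists_vecMul_eq_zero_iff.mp
    ⟨fun v => if Relation.ReflTransGen G r v then 0 else 1, ?_, ?_⟩
  · exact fun h => by simpa [hv₀] using congrFun h v₀
  · funext j
    rw [vecMul, dotProduct]
    by_cases hj : j = r
    · subst hj
      simp [incMat, Pi.single_apply, Relation.ReflTransGen.refl]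
    · have hadj : G (ends (g j)).1 (ends (g j)).2 := ⟨⟨g j, hT j hj⟩, Or.inl rfl⟩
      have heq : Relation.ReflTransGen G r (ends (g j)).1 ↔
          Relation.ReflTransGen G r (ends (g j)).2 :=
        ⟨fun h => h.tail hadj, fun h => h.tail (hsymm _ _ hadj)⟩
      simp [incMat, hj, col, Pi.single_apply, mul_sub, Finset.sum_sub_distrib, heq]

/-- Columns `β_q δ_p - β_p δ_q` for edges, and `u` for the extra index. -/
def bmat (ends : E → V × V) (β u : V → ℤ) : Matrix V (Option E) ℚ :=
  Matrix.of fun i o => match o with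
    | none => (u i : ℚ)
    | some e => (β (ends e).2 : ℚ) * (if (ends e).1 = i then 1 else 0) -
        (β (ends e).1 : ℚ) * (if (ends e).2 = i then 1 else 0)

/-- Weights. -/
def wt (ends : E → V × V) (β : V → ℤ) : Option E → ℚ
  | none => 1
  | some e => ((β (ends e).1 : ℚ) * (β (ends e).2 : ℚ))⁻¹

theorem mult_mul_diag {ends : E → V × V} {β : V → ℤ} (hβ : LabGraph.IsMultFn ends β) (v : V) :
    β v * LabGraph.mfMatrix ends β v v =
      -∑ u ∈ univ.erase v, β u * (LabGraph.edgeMult ends v u : ℤ) := by
  simp only [LabGraph.mfMatrix, if_true]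
  exact Int.mul_ediv_cancel' (dvd_neg.mpr (hβ v).2)

theorem mulVec_beta {ends : E → V × V} {β : V → ℤ} (hβ : LabGraph.IsMultFn ends β) :
    LabGraph.mfMatrix ends β *ᵥ β = 0 := by
  funext v
  rw [Matrix.mulVec, dotProduct, ← Finset.add_sum_erase _ _ (mem_univ v),
    mul_comm (LabGraph.mfMatrix ends β v v), mult_mul_diag hβ]
  rw [Pi.zero_apply, neg_add_eq_zero]
  refine Finset.sum_congr rfl fun u hu => ?_
  simp [LabGraph.mfMatrix, (ne_of_mem_erase hu).symm, mul_comm]

theorem mfMatrix_symm (ends : E → V × V) (β : V → ℤ) (v w : V) :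
    LabGraph.mfMatrix ends β v w = LabGraph.mfMatrix ends β w v := by
  rcases eq_or_ne v w with rfl | h
  · rfl
  · simp [LabGraph.mfMatrix, h, h.symm, LabGraph.edgeMult, or_comm]

/-- `-α + u uᵀ = B W Bᵀ`. -/
theorem factor {ends : E → V × V} {β : V → ℤ} (hβ : LabGraph.IsMultFn ends β) (u : V → ℤ) :
    (-LabGraph.mfMatrix ends β + vecMulVec u u).map (fun z : ℤ => (z : ℚ)) =
      bmat ends β u * (Matrix.diagonal (wt ends β) * (bmat ends β u)ᵀ) := by
  classical
  have hpos : ∀ v, (β v : ℚ) ≠ 0 := fun v => by exact_mod_cast (hβ v).1.ne'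
  -- the edge part
  let F : V → V → ℚ := fun i j => ∑ e : E,
    bmat ends β u i (some e) * (wt ends β (some e) * bmat ends β u j (some e))
  have hoff : ∀ i j, i ≠ j → F i j = -(LabGraph.edgeMult ends i j : ℚ) := by
    intro i j hij
    rw [LabGraph.edgeMult, Finset.card_filter]
    push_cast
    rw [← Finset.sum_neg_distrib]
    refine Finset.sum_congr rfl fun e _ => ?_
    simp only [bmat, wt, Matrix.of_apply]
    obtain ⟨p, q, he⟩ : ∃ p q, ends e = (p, q) := ⟨_, _, rfl⟩
    have := hpos p; have := hpos q
    simp only [he, Prod.mk.injEq]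
    by_cases h1 : p = i <;> by_cases h2 : q = i <;> by_cases h3 : p = j <;> by_cases h4 : q = j <;>
      simp_all <;> field_simp <;> simp_all [div_self, mul_comm]
  have hker : ∀ i, ∑ j, F i j * (β j : ℚ) = 0 := by
    intro i
    simp only [F, Finset.sum_mul]
    rw [Finset.sum_comm]
    refine Finset.sum_eq_zero fun e _ => ?_
    have h0 : ∑ j, bmat ends β u j (some e) * (β j : ℚ) = 0 := by
      simp [bmat, mul_sub, Finset.sum_sub_distrib, mul_comm]
    simp only [mul_assoc, ← Finset.mul_sum]
    rw [h0, mul_zero, mul_zero]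
  have hF : ∀ i j, F i j = -(LabGraph.mfMatrix ends β i j : ℚ) := by
    intro i j
    rcases eq_or_ne i j with rfl | hij
    · have h1 := hker i
      rw [← Finset.add_sum_erase _ _ (mem_univ i),
        Finset.sum_congr rfl fun k hk => by rw [hoff i k (ne_of_mem_erase hk).symm]] at h1
      have h2 := congrArg (fun z : ℤ => (z : ℚ)) (mult_mul_diag hβ i)
      push_cast at h2
      have h3 : F i i * (β i : ℚ) = (-(LabGraph.mfMatrix ends β i i : ℚ)) * (β i : ℚ) := by
        rw [neg_mul, mul_comm (LabGraph.mfMatrix ends β i i : ℚ), h2, neg_neg]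
        rw [eq_neg_of_add_eq_zero_left h1, ← Finset.sum_neg_distrib]
        exact Finset.sum_congr rfl fun k _ => by ring
      exact mul_right_cancel₀ (hpos i) h3
    · simp [hoff i j hij, LabGraph.mfMatrix, hij]
  ext i j
  simp only [Matrix.map_apply, Matrix.add_apply, Matrix.neg_apply, vecMulVec_apply]
  rw [Matrix.mul_apply]
  simp only [Matrix.diagonal_mul, Matrix.transpose_apply, Fintype.sum_option]
  have := hF i j
  simp only [F] at this
  rw [this]
  simp [bmat, wt]
  ring

open Classical in
/-- The weighted term of one selection of columns. -/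
theorem term [Nonempty V] {ends : E → V × V} {β : V → ℤ} (hβ : ∀ v, 0 < β v) (u : V → ℤ) (m : ℤ)
    (hu : ∑ v, β v * u v = m) (p : V → Option E) :
    (∏ i, wt ends β (p i)) * ((bmat ends β u).submatrix id p).det ^ 2 =
      if Function.Injective p ∧ ∃ T : Finset E, LabGraph.IsSpanningTree ends T ∧
          univ.image p = Finset.insertNone T
      then (m : ℚ) ^ 2 * (∏ v, ((β v : ℚ) ^ ((LabGraph.endCount ends
          (Finset.eraseNone (univ.image p)) v : ℤ) - 2))) else 0 := by
  classical
  have hpos : ∀ v, (β v : ℚ) ≠ 0 := fun v => by exact_mod_cast (hβ v).ne'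
  set X := (bmat ends β u).submatrix id p with hX
  by_cases hp : Function.Injective p
  swap
  · obtain ⟨i, j, hij, hne⟩ := Function.not_injective_iff.mp hp
    rw [if_neg (fun h => hp h.1), Matrix.det_zero_of_column_eq hne (fun k => by simp [hX, hij])]
    simp
  by_cases hnone : ∃ r, p r = none
  swap
  · have h0 : X.det = 0 := by
      refine exists_vecMul_eq_zero_iff.mp ⟨fun v => (β v : ℚ), ?_, ?_⟩
      · exact fun h => hpos _ (congrFun h (Classical.arbitrary V))
      · funext j
        obtain ⟨e, he⟩ : ∃ e, p j = some e :=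
          Option.ne_none_iff_exists'.mp fun h => hnone ⟨j, h⟩
        simp [vecMul, dotProduct, hX, bmat, he, mul_sub, Finset.sum_sub_distrib, mul_comm]
    rw [if_neg, h0]
    · simp
    · rintro ⟨-, T, -, hT⟩
      have : none ∈ univ.image p := hT ▸ Finset.none_mem_insertNone
      simp at this
      exact hnone this
  obtain ⟨r, hr⟩ := hnone
  set T := Finset.eraseNone (univ.image p) with hT
  have hsome : ∀ j, j ≠ r → ∃ e, p j = some e :=
    fun j hj => Option.ne_none_iff_exists'.mp fun h => hj (hp (h.trans hr.symm))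
  have hins : univ.image p = Finset.insertNone T := by
    rw [hT, Finset.insertNone_eraseNone, eq_comm, Finset.insert_eq_self]
    exact Finset.mem_image.mpr ⟨r, mem_univ _, hr⟩
  have hcard : T.card + 1 = Fintype.card V := by
    rw [← Finset.card_insertNone, ← hins, Finset.card_image_of_injective _ hp, Finset.card_univ]
  have hiff : (Function.Injective p ∧ ∃ T' : Finset E, LabGraph.IsSpanningTree ends T' ∧
      univ.image p = Finset.insertNone T') ↔
      LabGraph.Connected (V := V) (fun e : T => ends e.1) := by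
    constructor
    · rintro ⟨-, T', h1, h2⟩
      have : T = T' := by rw [hT, h2, Finset.eraseNone_insertNone]
      exact this ▸ ((isSpanningTree_iff _ _).mp h1).1
    · exact fun h => ⟨hp, T, (isSpanningTree_iff _ _).mpr ⟨h, hcard⟩, hins⟩
  have memT : ∀ e, e ∈ T ↔ ∃ j, j ≠ r ∧ p j = some e := by
    intro e
    simp only [hT, Finset.mem_eraseNone, Finset.mem_image, mem_univ, true_and]
    exact ⟨fun ⟨j, hj⟩ => ⟨j, fun h => by simp [h, hr] at hj, hj⟩, fun ⟨j, _, hj⟩ => ⟨j, hj⟩⟩
  rcases isEmpty_or_nonempty E with hE | hE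
  · -- no edges: `V` is a single point
    have hV : ∀ j, j = r := fun j => by
      by_contra hj
      obtain ⟨e, -⟩ := hsome j hj
      exact hE.elim e
    have hT0 : T = ∅ := Finset.eq_empty_of_isEmpty T
    haveI : Unique V := ⟨⟨r⟩, hV⟩
    have hcn : LabGraph.Connected (V := V) (fun e : T => ends e.1) :=
      ⟨⟨r⟩, fun a b => by rw [hV a, hV b]⟩
    rw [if_pos (hiff.mpr hcn), Matrix.det_unique]
    have hd : default = r := hV _
    have hm : (m : ℚ) = (β r : ℚ) * (u r : ℚ) := by
      rw [← hu]; simp [hd]
    simp only [hX, Fintype.prod_unique, hd, Matrix.submatrix_apply, id, hr, bmat, wt,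
      Matrix.of_apply, hm, hT0, LabGraph.endCount, Finset.sum_empty, Nat.cast_zero, zero_sub]
    rw [_root_.zpow_neg]
    have := hpos r
    norm_num
    field_simp
  let g : V → E := fun j => (p j).getD (Classical.arbitrary E)
  have hg : ∀ j, j ≠ r → p j = some (g j) := fun j hj => by
    obtain ⟨e, he⟩ := hsome j hj; simp [g, he]
  have hgT : ∀ j, j ≠ r → g j ∈ T := fun j hj => (memT _).mpr ⟨j, hj, hg j hj⟩
  -- rows scaled by `β`
  let c : V → ℚ := fun j => if j = r then 1 else
    (β (ends (g j)).1 : ℚ) * (β (ends (g j)).2 : ℚ)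
  let A : Matrix V V ℚ := Matrix.of fun i j =>
    if j = r then (β i : ℚ) * (u i : ℚ) else (col ends (g j) i : ℚ)
  have hA : (∏ v, (β v : ℚ)) * X.det = (∏ j, c j) * A.det := by
    rw [← Matrix.det_mul_column, ← Matrix.det_mul_row]
    congr 1
    ext i j
    simp only [Matrix.of_apply, hX, Matrix.submatrix_apply, id, c, A]
    rcases eq_or_ne j r with rfl | hj
    · simp [bmat, hr]
    · simp only [bmat, hg j hj, if_neg hj, col, Matrix.of_apply, Pi.sub_apply, Pi.single_apply]
      push_cast
      by_cases h1 : (ends (g j)).1 = i <;> by_cases h2 : (ends (g j)).2 = i <;>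
        simp_all [eq_comm] <;> ring
  have hK : A.det = (m : ℚ) * ((incMat ends r g).det : ℚ) := by
    rw [det_eq_sum_mul A r (fun j hj => by
      simp [A, hj, col, Pi.single_apply, apply_ite (Int.cast : ℤ → ℚ)])]
    congr 1
    · rw [← hu]; simp [A]
    · rw [Int.cast_det]
      congr 1
      ext i j
      rcases eq_or_ne j r with rfl | hj
      · simp [incMat, Pi.single_apply, apply_ite (Int.cast : ℤ → ℚ)]
      · simp [incMat, A, hj]
  have hprodc : ∏ j, c j = ∏ e ∈ T, (β (ends e).1 : ℚ) * (β (ends e).2 : ℚ) := by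
    rw [← Finset.mul_prod_erase _ _ (mem_univ r), show c r = 1 from if_pos rfl, one_mul]
    refine Finset.prod_bij (fun j _ => g j) (fun j hj => hgT j (ne_of_mem_erase hj)) ?_ ?_ ?_
    · intro a ha b hb h
      exact hp (by rw [hg a (ne_of_mem_erase ha), hg b (ne_of_mem_erase hb), h])
    · intro e he
      obtain ⟨j, hj, he⟩ := (memT e).mp he
      exact ⟨j, mem_erase.mpr ⟨hj, mem_univ _⟩, by simp [g, he]⟩
    · intro j hj; simp [c, ne_of_mem_erase hj]
  have hw : ∏ i, wt ends β (p i) = (∏ j, c j)⁻¹ := by
    rw [← Finset.prod_inv_distrib]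
    refine Finset.prod_congr rfl fun j _ => ?_
    rcases eq_or_ne j r with rfl | hj
    · simp [c, hr, wt]
    · simp [c, hj, hg j hj, wt, mul_comm]
  by_cases hcn : LabGraph.Connected (V := V) (fun e : T => ends e.1)
  · rw [if_pos (hiff.mpr hcn)]
    have hunit := isUnit_det_incMat_of_connected ends r g T
      (fun e he => by
        obtain ⟨j, hj, he⟩ := (memT e).mp he
        exact ⟨j, hj, by simp [g, he]⟩) hcn
    have hK2 : ((incMat ends r g).det : ℚ) ^ 2 = 1 := by
      rcases Int.isUnit_iff.mp hunit with h | h <;> simp [h]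
    have hc0 : ∏ j, c j ≠ 0 := by
      rw [hprodc]; exact Finset.prod_ne_zero_iff.mpr fun e _ => mul_ne_zero (hpos _) (hpos _)
    have hb0 : ∏ v, (β v : ℚ) ≠ 0 := Finset.prod_ne_zero_iff.mpr fun v _ => hpos v
    have hdet : X.det = (∏ j, c j) * ((m : ℚ) * ((incMat ends r g).det : ℚ)) /
        ∏ v, (β v : ℚ) := by
      rw [eq_div_iff hb0, mul_comm X.det, hA, hK]
    have hP : ∏ j, c j = ∏ v, (β v : ℚ) ^ LabGraph.endCount ends T v := by
      rw [hprodc]
      simp only [LabGraph.endCount, ← Finset.prod_pow_eq_pow_sum]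
      rw [Finset.prod_comm]
      refine Finset.prod_congr rfl fun e _ => ?_
      simp only [pow_add, Finset.prod_mul_distrib, pow_ite, pow_one, pow_zero,
        Finset.prod_ite_eq, Finset.mem_univ, if_true]
    have hrhs : ∏ v, ((β v : ℚ) ^ ((LabGraph.endCount ends T v : ℤ) - 2)) =
        (∏ j, c j) / (∏ v, (β v : ℚ)) ^ 2 := by
      rw [hP, ← Finset.prod_pow, ← Finset.prod_div_distrib]
      refine Finset.prod_congr rfl fun v _ => ?_
      rw [zpow_sub₀ (hpos v), zpow_natCast]
      norm_cast
    rw [hw, hdet, hrhs, div_pow, mul_pow, mul_pow, hK2]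
    field_simp
  · rw [if_neg (mt hiff.mp hcn)]
    have h0 : X.det = 0 := by
      have := hA
      rw [hK, det_incMat_of_not_connected ends r g T hgT hcn] at this
      simpa [Finset.prod_eq_zero_iff, hpos] using this
    simp [h0]

/-- The weighted matrix-tree theorem. -/
theorem det_eq [Nonempty V] {ends : E → V × V} {β : V → ℤ} (hβ : LabGraph.IsMultFn ends β) (u : V → ℤ) (m : ℤ)
    (hu : ∑ v, β v * u v = m) [DecidablePred (LabGraph.IsSpanningTree ends)] :
    ((-LabGraph.mfMatrix ends β + vecMulVec u u).det : ℚ) =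
      (m : ℚ) ^ 2 * ∑ T ∈ univ.powerset.filter (fun T => LabGraph.IsSpanningTree ends T),
        ∏ v, ((β v : ℚ) ^ ((LabGraph.nbrCount ends T v : ℤ) - 2)) := by
  classical
  have hn : ((Fintype.card V).factorial : ℚ) ≠ 0 := by exact_mod_cast Nat.factorial_ne_zero _
  apply mul_left_cancel₀ hn
  rw [Int.cast_det, factor hβ, factorial_mul_det_mul]
  have hterm : ∀ p : V → Option E, ((bmat ends β u).submatrix id p).det *
      ((Matrix.diagonal (wt ends β) * (bmat ends β u)ᵀ).submatrix p id).det =
      ∑ T ∈ univ.powerset.filter (fun T => LabGraph.IsSpanningTree ends T),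
        if Function.Injective p ∧ univ.image p = Finset.insertNone T then
          (m : ℚ) ^ 2 * ∏ v, ((β v : ℚ) ^ ((LabGraph.nbrCount ends T v : ℤ) - 2)) else 0 := by
    intro p
    have h1 : ((Matrix.diagonal (wt ends β) * (bmat ends β u)ᵀ).submatrix p id).det =
        (∏ i, wt ends β (p i)) * ((bmat ends β u).submatrix id p).det := by
      rw [← Matrix.det_transpose ((bmat ends β u).submatrix id p), ← Matrix.det_mul_column]
      congr 1
      ext i j
      simp [Matrix.diagonal_mul]
    rw [h1, mul_left_comm, ← pow_two, term (fun v => (hβ v).1) u m hu p]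
    split_ifs with h
    · obtain ⟨hinj, T, hT, him⟩ := h
      rw [Finset.sum_eq_single T]
      · rw [if_pos ⟨hinj, him⟩, him, Finset.eraseNone_insertNone]
        simp_rw [nbrCount_eq_endCount hT]
      · intro T' _ hne
        rw [if_neg]
        rintro ⟨-, him'⟩
        exact hne (Finset.insertNone.injective (him'.symm.trans him))
      · intro hnm
        exact absurd (Finset.mem_filter.mpr ⟨Finset.mem_powerset.mpr (subset_univ _), hT⟩) hnm
    · symm
      refine Finset.sum_eq_zero fun T hT => if_neg fun h' => h ⟨h'.1, T, ?_, h'.2⟩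
      exact (Finset.mem_filter.mp hT).2
  simp_rw [hterm]
  rw [Finset.sum_comm, Finset.mul_sum, Finset.mul_sum]
  refine Finset.sum_congr rfl fun T hT => ?_
  rw [← Finset.sum_filter, Finset.sum_const, nsmul_eq_mul, card_injective_of_range]
  rw [Finset.card_insertNone]
  exact ((isSpanningTree_iff _ _).mp (Finset.mem_filter.mp hT).2).2

end Groth.Agent.CompGroup
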