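import Groth.Agent.CompGroup.Det

set_option autoImplicit false

namespace Groth.Agent.CompGroup

open Finset Matrix

universe u

variable {V E : Type u} [Fintype V] [Fintype E] [DecidableEq V] [DecidableEq E]

theorem betaHom_apply (β x : V → ℤ) : LabGraph.betaHom β x = ∑ v, x v * β v := by
  simp [LabGraph.betaHom, Fintype.linearCombination_apply]

theorem dot_mulVec_eq_zero {ends : E → V × V} {β : V → ℤ} (hβ : LabGraph.IsMultFn ends β)
    (x : V → ℤ) : β ⬝ᵥ (LabGraph.mfMatrix ends β *ᵥ x) = 0 := by
  have h : β ᵥ* LabGraph.mfMatrix ends β = 0 := by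
    have hT : (LabGraph.mfMatrix ends β)ᵀ = LabGraph.mfMatrix ends β := by
      ext i j; exact mfMatrix_symm ends β j i
    rw [← mulVec_transpose, hT, mulVec_beta hβ]
  rw [dotProduct_mulVec, h, zero_dotProduct]

theorem quad_pos {ends : E → V × V} {β : V → ℤ} (hβ : LabGraph.IsMultFn ends β)
    (hG : LabGraph.Connected ends) (u : V → ℤ) (m : ℤ) (hu : ∑ v, β v * u v = m) (hm : m ≠ 0)
    (x : V → ℤ) (hx : (-LabGraph.mfMatrix ends β + vecMulVec u u) *ᵥ x = 0) : x = 0 := by
  classical
  let X : V → ℚ := fun v => (x v : ℚ)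
  let z : Option E → ℚ := (bmat ends β u)ᵀ *ᵥ X
  have h1 : (bmat ends β u) *ᵥ ((Matrix.diagonal (wt ends β)) *ᵥ z) = 0 := by
    rw [mulVec_mulVec, mulVec_mulVec, Matrix.mul_assoc, ← factor hβ]
    funext i
    have := congrArg (fun q : ℤ => (q : ℚ)) (congrFun hx i)
    simpa [mulVec, dotProduct, X] using this
  have h2 : ∑ o, wt ends β o * z o ^ 2 = 0 := by
    have := congrArg (fun w => X ⬝ᵥ w) h1
    simp only [dotProduct_zero] at this
    rw [dotProduct_mulVec, ← mulVec_transpose] at this
    rw [← this]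
    simp only [dotProduct, mulVec_diagonal, z]
    exact Finset.sum_congr rfl fun o _ => by ring
  have hposw : ∀ o, 0 < wt ends β o := by
    rintro (_ | e)
    · simp [wt]
    · have a := (hβ (ends e).1).1; have b := (hβ (ends e).2).1
      simp only [wt]
      positivity
  have hz : ∀ o, z o = 0 := fun o => by
    have := (Finset.sum_eq_zero_iff_of_nonneg
      (fun o _ => mul_nonneg (hposw o).le (sq_nonneg (z o)))).mp h2 o (mem_univ _)
    rcases mul_eq_zero.mp this with h | h
    · exact absurd h (hposw o).ne'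
    · simpa using h
  have hedge : ∀ e, x (ends e).1 * β (ends e).2 = x (ends e).2 * β (ends e).1 := by
    intro e
    have h := hz (some e)
    simp [z, mulVec, dotProduct, bmat, sub_mul, Finset.sum_sub_distrib, X] at h
    have h' : (x (ends e).1 * β (ends e).2 : ℚ) = (x (ends e).2 * β (ends e).1 : ℚ) := by linarith
    exact_mod_cast h'
  have hprop : ∀ v w, x v * β w = x w * β v := by
    intro v w
    induction hG.2 v w with
    | refl => ring
    | @tail b c _ hbc ih =>
      obtain ⟨e, he | he⟩ := hbc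
      all_goals
        have h := hedge e
        rw [he] at h
        simp only at h
        apply mul_right_cancel₀ (hβ b).1.ne'
      · calc x v * β c * β b = (x v * β b) * β c := by ring
          _ = x b * β v * β c := by rw [ih]
          _ = (x b * β c) * β v := by ring
          _ = x c * β v * β b := by rw [h]; ring
      · calc x v * β c * β b = (x v * β b) * β c := by ring
          _ = x b * β v * β c := by rw [ih]
          _ = (x b * β c) * β v := by ring
          _ = x c * β v * β b := by rw [← h]; ring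
  have hux : ∑ i, u i * x i = 0 := by
    have h := hz none
    simp [z, mulVec, dotProduct, bmat, X] at h
    exact_mod_cast h
  funext v
  have : x v * m = β v * ∑ i, u i * x i := by
    rw [← hu, Finset.mul_sum, Finset.mul_sum]
    exact Finset.sum_congr rfl fun w _ => by linear_combination (u w) * hprop v w
  rw [hux, mul_zero] at this
  simpa [hm] using this

open Classical in
theorem card_compGrp {ends : E → V × V} {β : V → ℤ} (hβ : LabGraph.IsMultFn ends β)
    (hG : LabGraph.Connected ends) :
    (Nat.card (LabGraph.CompGrp ends β) : ℚ) =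
      ((univ.gcd β : ℤ) : ℚ) ^ 2 *
        ∑ T ∈ univ.powerset.filter (fun T : Finset E => LabGraph.IsSpanningTree ends T),
          ∏ v : V, ((β v : ℚ) ^ ((LabGraph.nbrCount ends T v : ℤ) - 2)) := by
  haveI := hG.1
  set m : ℤ := univ.gcd β with hmdef
  have hm : m ≠ 0 := fun h => (hβ (Classical.arbitrary V)).1.ne'
    (Finset.gcd_eq_zero_iff.mp h _ (mem_univ _))
  obtain ⟨u, hu'⟩ := Finset.gcd_eq_sum_mul (univ : Finset V) β
  have hu : ∑ v, β v * u v = m := hu'.symm
  obtain ⟨b, hb⟩ : ∃ b : V → ℤ, ∀ v, β v = m * b v :=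
    ⟨fun v => β v / m, fun v => (Int.mul_ediv_cancel' (Finset.gcd_dvd (mem_univ v))).symm⟩
  have hub : u ⬝ᵥ b = 1 := by
    apply mul_left_cancel₀ hm
    rw [mul_one, dotProduct, Finset.mul_sum]
    conv_rhs => rw [← hu]
    exact Finset.sum_congr rfl fun v _ => by rw [hb v]; ring
  set α := LabGraph.mfMatrix ends β with hα
  set M : Matrix V V ℤ := -α + vecMulVec u u with hM
  have hMv : ∀ x, M *ᵥ x = -(α *ᵥ x) + (u ⬝ᵥ x) • u := by
    intro x
    rw [hM, add_mulVec, neg_mulVec, vecMulVec_mulVec]
    congr 1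
    funext i
    simp [mul_comm]
  have hαb : α *ᵥ b = 0 := by
    have h : m • (α *ᵥ b) = 0 := by
      rw [← mulVec_smul, show m • b = β from funext fun v => (hb v).symm, mulVec_beta hβ]
    exact (smul_eq_zero.mp h).resolve_left hm
  have hMb : M *ᵥ b = u := by rw [hMv, hαb, hub]; simp
  have hinj : Function.Injective M.mulVecLin := by
    rw [← LinearMap.ker_eq_bot, LinearMap.ker_eq_bot']
    exact fun x hx => quad_pos hβ hG u m hu hm x hx
  have hdet : (M.det.natAbs : ℕ) = Nat.card ((V → ℤ) ⧸ LinearMap.range M.mulVecLin) := by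
    rw [← Submodule.natAbs_det_equiv (LinearMap.range M.mulVecLin)
      (LinearEquiv.ofInjective M.mulVecLin hinj)]
    congr 1
    rw [show M.det = LinearMap.det (Matrix.toLin' M) from (LinearMap.det_toLin' M).symm]
    rfl
  let f : LinearMap.ker (LabGraph.betaHom β) →ₗ[ℤ] (V → ℤ) ⧸ LinearMap.range M.mulVecLin :=
    (LinearMap.range M.mulVecLin).mkQ.comp (LinearMap.ker (LabGraph.betaHom β)).subtype
  have hsur : Function.Surjective f := by
    intro q
    obtain ⟨x, rfl⟩ := Submodule.Quotient.mk_surjective _ q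
    refine ⟨⟨x - (b ⬝ᵥ x) • u, ?_⟩, (Submodule.Quotient.eq _).mpr ⟨-(b ⬝ᵥ x) • b, ?_⟩⟩
    · rw [LinearMap.mem_ker, betaHom_apply]
      have : ∑ v, x v * β v = m * (b ⬝ᵥ x) := by
        rw [dotProduct, Finset.mul_sum]
        exact Finset.sum_congr rfl fun v _ => by rw [hb v]; ring
      simp only [Pi.sub_apply, Pi.smul_apply, smul_eq_mul, sub_mul, Finset.sum_sub_distrib, this]
      rw [sub_eq_zero, mul_comm m]
      conv_lhs => rw [← hu, Finset.mul_sum]
      exact Finset.sum_congr rfl fun v _ => by ring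
    · rw [mulVecLin_apply, mulVec_smul, hMb]
      simp
  have hker : LinearMap.ker f =
      (LinearMap.range (Matrix.mulVecLin α)).comap (LinearMap.ker (LabGraph.betaHom β)).subtype := by
    ext ⟨y, hy⟩
    simp only [f, LinearMap.ker_comp, Submodule.ker_mkQ, Submodule.mem_comap, Submodule.coe_subtype,
      LinearMap.mem_range, mulVecLin_apply]
    constructor
    · rintro ⟨x, rfl⟩
      rw [LinearMap.mem_ker, betaHom_apply] at hy
      have h0 : (u ⬝ᵥ x) * m = 0 := by
        have h : β ⬝ᵥ (M *ᵥ x) = 0 := by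
          rw [dotProduct]
          simpa [mul_comm] using hy
        rw [hMv, dotProduct_add, dotProduct_neg, dot_mulVec_eq_zero hβ, dotProduct_smul] at h
        simpa [dotProduct, hu] using h
      have h1 : u ⬝ᵥ x = 0 := by simpa [hm] using h0
      exact ⟨-x, by rw [hMv, h1, mulVec_neg]; simp⟩
    · rintro ⟨x, rfl⟩
      refine ⟨-x + (u ⬝ᵥ x) • b, ?_⟩
      rw [mulVec_add, mulVec_neg, mulVec_smul, hMb, hMv]
      simp
  have hcard : Nat.card (LabGraph.CompGrp ends β) = M.det.natAbs := by
    rw [hdet, ← Nat.card_congr (f.quotKerEquivOfSurjective hsur).toEquiv, hker]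
  have hD := det_eq hβ u m hu
  have hnn : 0 ≤ M.det := by
    have h : (0 : ℚ) ≤ (M.det : ℚ) := by
      rw [hD]
      refine mul_nonneg (sq_nonneg _) (Finset.sum_nonneg fun T _ => Finset.prod_nonneg fun v _ => ?_)
      exact zpow_nonneg (by exact_mod_cast (hβ v).1.le) _
    exact_mod_cast h
  rw [hcard, ← hD, Nat.cast_natAbs, abs_of_nonneg hnn]

end Groth.Agent.CompGroup
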