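import Groth.Prelude.Def_W4c2conddiscmodels
import Mathlib

set_option autoImplicit false

namespace Groth.Agent.CompGroup

open Finset Matrix

universe u

variable {V E : Type u} [Fintype V] [Fintype E] [DecidableEq V] [DecidableEq E]

/-- Mod 2 incidence map. -/
def inc2 (ends : E → V × V) : (E → ZMod 2) →ₗ[ZMod 2] (V → ZMod 2) :=
  Fintype.linearCombination (ZMod 2) (fun e => Pi.single (ends e).1 1 + Pi.single (ends e).2 1)

theorem inc2_indicator (ends : E → V × V) (C : Finset E) (v : V) :
    inc2 ends (fun e => if e ∈ C then 1 else 0) v = (LabGraph.endCount ends C v : ZMod 2) := by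
  simp only [inc2, Fintype.linearCombination_apply, Finset.sum_apply, Pi.smul_apply,
    Pi.add_apply, Pi.single_apply, LabGraph.endCount, smul_eq_mul, ite_mul, one_mul, zero_mul,
    Finset.sum_ite_mem, Finset.univ_inter]
  push_cast
  refine Finset.sum_congr rfl fun e _ => ?_
  simp only [eq_comm]

theorem exists_circuit_of_even {ends : E → V × V} (C : Finset E) (hC : C.Nonempty)
    (he : ∀ v, Even (LabGraph.endCount ends C v)) :
    ∃ C' : Finset E, C' ⊆ C ∧ LabGraph.IsCircuit ends C' := by
  induction C using Finset.strongInduction with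
  | H C ih =>
    by_cases h : ∃ C' : Finset E, C' ⊂ C ∧ C'.Nonempty ∧ ∀ v, Even (LabGraph.endCount ends C' v)
    · obtain ⟨C', hlt, hne, hev⟩ := h
      obtain ⟨C'', hsub, hc⟩ := ih C' hlt hne hev
      exact ⟨C'', hsub.trans hlt.subset, hc⟩
    · refine ⟨C, subset_rfl, hC, he, fun C' hlt hne => ?_⟩
      by_contra hall
      push Not at hall
      exact h ⟨C', hlt, hne, hall⟩

theorem isForest_iff_injective (ends : E → V × V) :
    DualGr.IsForest ends ↔ Function.Injective (inc2 ends) := by
  constructor
  · intro h
    rw [← LinearMap.ker_eq_bot, LinearMap.ker_eq_bot']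
    intro x hx
    by_contra hne
    have hxC : x = fun e => if e ∈ univ.filter (fun e => x e ≠ 0) then 1 else 0 := by
      funext e
      simp only [Finset.mem_filter, Finset.mem_univ, true_and]
      have h2 : ∀ z : ZMod 2, z = if z ≠ 0 then 1 else 0 := by decide
      exact h2 (x e)
    have hC : (univ.filter fun e => x e ≠ 0).Nonempty := by
      obtain ⟨e, he⟩ := Function.ne_iff.mp hne
      exact ⟨e, Finset.mem_filter.mpr ⟨mem_univ _, he⟩⟩
    obtain ⟨C', -, hc⟩ := exists_circuit_of_even (ends := ends) _ hC fun v => by
      rw [← ZMod.natCast_eq_zero_iff_even, ← inc2_indicator, ← hxC, hx]; rfl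
    exact h C' hc
  · rintro h C ⟨⟨e, he⟩, hev, -⟩
    have : inc2 ends (fun e => if e ∈ C then 1 else 0) = inc2 ends 0 := by
      funext v
      rw [inc2_indicator, map_zero]
      exact ZMod.natCast_eq_zero_iff_even.mpr (hev v)
    simpa [he] using congrFun (h this) e

theorem finrank_range_inc2 {ends : E → V × V} (hG : LabGraph.Connected ends) :
    Module.finrank (ZMod 2) (LinearMap.range (inc2 ends)) + 1 = Fintype.card V := by
  obtain ⟨⟨r⟩, hc⟩ := hG
  let S : (V → ZMod 2) →ₗ[ZMod 2] ZMod 2 :=
    Fintype.linearCombination (ZMod 2) (fun _ => 1)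
  have hS : LinearMap.range (inc2 ends) = LinearMap.ker S := by
    apply le_antisymm
    · rintro _ ⟨x, rfl⟩
      simp only [LinearMap.mem_ker, S, inc2, Fintype.linearCombination_apply, Finset.sum_apply,
        Pi.smul_apply, Pi.add_apply, smul_eq_mul, mul_one]
      rw [Finset.sum_comm]
      refine Finset.sum_eq_zero fun e _ => ?_
      rw [← Finset.mul_sum, Finset.sum_add_distrib]
      simp [show (1 + 1 : ZMod 2) = 0 from rfl]
    · intro y hy
      have hpair : ∀ v, (Pi.single v 1 + Pi.single r 1 : V → ZMod 2) ∈
          LinearMap.range (inc2 ends) := by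
        intro v
        induction hc r v with
        | refl =>
          convert zero_mem (LinearMap.range (inc2 ends)) using 1
          funext i; simp [show ∀ a : ZMod 2, a + a = 0 from fun a => CharTwo.add_self_eq_zero a]
        | @tail b c _ hbc ih =>
          have hedge : (Pi.single b 1 + Pi.single c 1 : V → ZMod 2) ∈
              LinearMap.range (inc2 ends) := by
            obtain ⟨e, he | he⟩ := hbc
            · exact ⟨Pi.single e 1, by simp [inc2, he]⟩
            · exact ⟨Pi.single e 1, by simp [inc2, he, add_comm]⟩
          have := add_mem hedge ih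
          have h2 : ∀ a : V → ZMod 2, a + a = 0 := fun a => by
            funext i; exact CharTwo.add_self_eq_zero _
          rwa [show (Pi.single b 1 + Pi.single c 1 : V → ZMod 2) + (Pi.single b 1 + Pi.single r 1)
            = (Pi.single b 1 + Pi.single b 1) + (Pi.single c 1 + Pi.single r 1) by abel, h2,
            zero_add] at this
      have : y = ∑ v, y v • (Pi.single v 1 + Pi.single r 1 : V → ZMod 2) := by
        have hy' : ∑ v, y v = 0 := by simpa [S, Fintype.linearCombination_apply] using hy
        simp only [smul_add, Finset.sum_add_distrib, ← Finset.sum_smul, hy', zero_smul, add_zero]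
        conv_lhs => rw [← Finset.univ_sum_single y]
        exact Finset.sum_congr rfl fun v _ => by rw [← Pi.single_smul, smul_eq_mul, mul_one]
      rw [this]
      exact sum_mem fun v _ => Submodule.smul_mem _ _ (hpair v)
  have hsur : Function.Surjective S := fun a => ⟨Pi.single r a, by
    simp [S, Fintype.linearCombination_apply_single]⟩
  have := LinearMap.finrank_range_add_finrank_ker S
  rw [LinearMap.range_eq_top.mpr hsur, finrank_top, Module.finrank_self,
    Module.finrank_fintype_fun_eq_card] at this
  rw [hS]; omega

/-- A connected graph is a tree iff it has one edge less than vertices. -/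
theorem isTree_iff (ends : E → V × V) :
    DualGr.IsTree ends ↔ LabGraph.Connected ends ∧ Fintype.card E + 1 = Fintype.card V := by
  refine and_congr_right fun hG => ?_
  rw [isForest_iff_injective, ← LinearMap.ker_eq_bot, ← Submodule.finrank_eq_zero]
  have h1 := LinearMap.finrank_range_add_finrank_ker (inc2 ends)
  rw [Module.finrank_fintype_fun_eq_card] at h1
  have h2 := finrank_range_inc2 hG
  omega

theorem isSpanningTree_iff (ends : E → V × V) (T : Finset E) :
    LabGraph.IsSpanningTree ends T ↔
      LabGraph.Connected (V := V) (fun e : T => ends e.1) ∧ T.card + 1 = Fintype.card V := by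
  rw [LabGraph.IsSpanningTree, isTree_iff, Fintype.card_coe]

/-- In a tree the number of neighbours is the number of edge ends. -/
theorem nbrCount_eq_endCount {ends : E → V × V} {T : Finset E}
    (hT : LabGraph.IsSpanningTree ends T) (v : V) :
    LabGraph.nbrCount ends T v = LabGraph.endCount ends T v := by
  classical
  have hinj := (isForest_iff_injective _).mp hT.2
  have key : ∀ e : T, ∀ e' : T, inc2 (fun x : T => ends x.1) (Pi.single e 1) =
      inc2 (fun x : T => ends x.1) (Pi.single e' 1) → e = e' := by
    intro e e' h
    have := congrFun (hinj h) e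
    simp [Pi.single_apply] at this
    exact this
  have h2 : ∀ a : V → ZMod 2, a + a = 0 := fun a => by
    funext i; exact CharTwo.add_self_eq_zero _
  have noloop : ∀ e ∈ T, (ends e).1 ≠ (ends e).2 := by
    intro e he h
    have : inc2 (fun x : T => ends x.1) (Pi.single ⟨e, he⟩ 1) =
        inc2 (fun x : T => ends x.1) 0 := by
      simp [inc2, h, h2]
    simpa using congrFun (hinj this) ⟨e, he⟩
  let other : E → V := fun e => if (ends e).1 = v then (ends e).2 else (ends e).1
  have himg : (univ.filter fun w : V => w ≠ v ∧ ∃ e ∈ T, ends e = (v, w) ∨ ends e = (w, v)) =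
      (T.filter fun e => (ends e).1 = v ∨ (ends e).2 = v).image other := by
    ext w
    simp only [mem_filter, mem_univ, true_and, mem_image]
    constructor
    · rintro ⟨hw, e, he, h | h⟩
      · exact ⟨e, ⟨he, by simp [h]⟩, by simp [other, h]⟩
      · exact ⟨e, ⟨he, by simp [h]⟩, by simp [other, h, hw]⟩
    · rintro ⟨e, ⟨he, h⟩, rfl⟩
      by_cases h1 : (ends e).1 = v
      · simp only [other, h1, if_true]
        exact ⟨fun h' => noloop e he (h1.trans h'.symm), e, he, Or.inl (Prod.ext h1 rfl)⟩
      · simp only [other, h1, if_false]
        refine ⟨h1, e, he, Or.inr (Prod.ext rfl ?_)⟩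
        exact h.resolve_left h1
  rw [LabGraph.nbrCount, himg, Finset.card_image_of_injOn, Finset.card_filter, LabGraph.endCount]
  · refine Finset.sum_congr rfl fun e he => ?_
    have := noloop e he
    by_cases h1 : (ends e).1 = v
    · rw [if_pos (Or.inl h1), if_pos h1, if_neg (fun h2 => this (h1.trans h2.symm))]
    · by_cases h3 : (ends e).2 = v
      · rw [if_pos (Or.inr h3), if_neg h1, if_pos h3]
      · simp [h1, h3]
  · intro e he e' he' h
    simp only [coe_filter, Set.mem_ofPred_eq] at he he'
    have := key ⟨e, he.1⟩ ⟨e', he'.1⟩ ?_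
    · exact congrArg Subtype.val this
    · have hsum : ∀ d : E, ((ends d).1 = v ∨ (ends d).2 = v) →
          (Pi.single (ends d).1 1 + Pi.single (ends d).2 1 : V → ZMod 2) =
            Pi.single v 1 + Pi.single (other d) 1 := by
        intro d hd
        by_cases h1 : (ends d).1 = v
        · simp [other, h1]
        · simp only [other, h1, if_false]
          rw [hd.resolve_left h1, add_comm]
      simp only [inc2, Fintype.linearCombination_apply_single, one_smul]
      rw [hsum e he.2, hsum e' he'.2, h]

end Groth.Agent.CompGroup
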